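import Groth.Prelude.Def_Omega3
import Groth.Agent.OmegaSh.K583.DerAffine
import Mathlib.CategoryTheory.Subobject.Limits
import Mathlib.CategoryTheory.Abelian.Exact

/-!
# Maps out of pulled back modules on sections; exactness through maps into test objects

* `id_pullSect`, `id_inv`: the isomorphism `(𝟙 X)^* M ≅ M` on pulled back sections;
* `pull_hom_ext`, `homEquiv_symm_pullSect`, `homEquiv_app`: morphisms out of `h^* M`;
* `homMk`: linear morphisms of abelian sheaves; `app_res`, `sapp_res`: naturality;
* `image_eq_kernel`: exactness of `A ⟶ B ⟶ D ⟶ 0` tested on maps out of `B`.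
-/

set_option autoImplicit false
universe u v w

open CategoryTheory CategoryTheory.Limits AlgebraicGeometry TopologicalSpace Opposite OmegaSh

namespace K137.Basic

variable {X Y : Scheme.{u}}

theorem id_pullSect (M : X.Modules) (V : X.Opens) (m : Γ(M, V)) :
    ((Scheme.Modules.pullbackId X).hom.app M).app V (pullSect (𝟙 X) M V m) = m := by
  have h := unit_conjugateEquiv Adjunction.id
    (Scheme.Modules.pullbackPushforwardAdjunction (𝟙 X)) (Scheme.Modules.pullbackId X).hom M
  rw [Scheme.Modules.conjugateEquiv_pullbackId_hom] at h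
  exact congr(($(h).app V) m).symm

theorem id_inv (M : X.Modules) (V : X.Opens) (m : Γ(M, V)) :
    ((Scheme.Modules.pullbackId X).inv.app M).app V m = pullSect (𝟙 X) M V m := by
  have h1 := congrArg (fun t => ((Scheme.Modules.pullbackId X).inv.app M).app V t) (id_pullSect M V m)
  refine h1.symm.trans ?_
  have h2 : (Scheme.Modules.pullbackId X).hom.app M ≫ (Scheme.Modules.pullbackId X).inv.app M = 𝟙 _ :=
    Iso.hom_inv_id_app _ _
  exact congr(($(h2).app V) (pullSect (𝟙 X) M V m))

/-- Morphisms out of a pull-back are determined by their values on pulled-back sections. -/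
theorem pull_hom_ext (h : Y ⟶ X) {M : X.Modules} {N : Y.Modules}
    {α β : (Scheme.Modules.pullback h).obj M ⟶ N}
    (H : ∀ (U : X.Opens) (s : Γ(M, U)),
      α.app (h ⁻¹ᵁ U) (pullSect h M U s) = β.app (h ⁻¹ᵁ U) (pullSect h M U s)) : α = β := by
  apply ((Scheme.Modules.pullbackPushforwardAdjunction h).homEquiv M N).injective
  rw [Adjunction.homEquiv_unit, Adjunction.homEquiv_unit]
  apply Scheme.Modules.hom_ext
  intro U
  ext s
  exact H U s

/-- A morphism `M ⟶ h_* N` gives a morphism `h^* M ⟶ N`. -/
theorem exists_desc (h : Y ⟶ X) {M : X.Modules} {N : Y.Modules}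
    (g : M ⟶ (Scheme.Modules.pushforward h).obj N) :
    ∃ k : (Scheme.Modules.pullback h).obj M ⟶ N, ∀ (U : X.Opens) (s : Γ(M, U)),
      k.app (h ⁻¹ᵁ U) (pullSect h M U s) = g.app U s := by
  refine ⟨((Scheme.Modules.pullbackPushforwardAdjunction h).homEquiv M N).symm g, fun U s => ?_⟩
  have h1 := ((Scheme.Modules.pullbackPushforwardAdjunction h).homEquiv M N).apply_symm_apply g
  rw [Adjunction.homEquiv_unit] at h1
  exact congr(($(h1).app U) s)

/-- The morphism `M ⟶ h_* N` attached to `h^* M ⟶ N`. -/
noncomputable def adj (h : Y ⟶ X) {M : X.Modules} {N : Y.Modules}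
    (k : (Scheme.Modules.pullback h).obj M ⟶ N) : M ⟶ (Scheme.Modules.pushforward h).obj N :=
  (Scheme.Modules.pullbackPushforwardAdjunction h).homEquiv M N k

theorem adj_app (h : Y ⟶ X) {M : X.Modules} {N : Y.Modules}
    (k : (Scheme.Modules.pullback h).obj M ⟶ N) (U : X.Opens) (s : Γ(M, U)) :
    (adj h k).app U s = k.app (h ⁻¹ᵁ U) (pullSect h M U s) := by
  have h1 := (Scheme.Modules.pullbackPushforwardAdjunction h).homEquiv_unit (X := M) (Y := N) (f := k)
  exact congr(($(h1).app U) s)

/-- A morphism of modules from a linear morphism of abelian sheaves. -/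
noncomputable def homMk {M N : X.Modules} (β : M.presheaf ⟶ N.presheaf)
    (hlin : ∀ (U : X.Opens) (a : Γ(X, U)) (m : Γ(M, U)), β.app (op U) (a • m) = a • β.app (op U) m) : M ⟶ N :=
  ⟨PresheafOfModules.homMk β (fun U r s => hlin U.unop r s)⟩

theorem homMk_app {M N : X.Modules} (β : M.presheaf ⟶ N.presheaf)
    (hlin : ∀ (U : X.Opens) (a : Γ(X, U)) (m : Γ(M, U)), β.app (op U) (a • m) = a • β.app (op U) m)
    (U : X.Opens) (m : Γ(M, U)) : (homMk β hlin).app U m = β.app (op U) m := rfl

/-- Morphisms of modules commute with restriction. -/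
theorem app_res {M N : X.Modules} (k : M ⟶ N) {U V : X.Opens} (h : V ≤ U) (m : Γ(M, U)) :
    k.app V (M.presheaf.map (homOfLE h).op m) = N.presheaf.map (homOfLE h).op (k.app U m) :=
  congr($((Scheme.Modules.Hom.mapPresheaf k).naturality (homOfLE h).op) m)

/-- Morphisms of schemes commute with restriction. -/
theorem sapp_res (h : Y ⟶ X) {U V : X.Opens} (e : V ≤ U) (a : Γ(X, U)) :
    h.app V (X.presheaf.map (homOfLE e).op a) = Y.presheaf.map (homOfLE (h.preimage_mono e)).op (h.app U a) :=
  congr($(h.naturality (homOfLE e).op) a)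

/-- `A ⟶ B ⟶ D ⟶ 0` is exact when every map out of `B` that kills `A` factors through `D`. -/
theorem image_eq_kernel {C : Type v} [Category.{w} C] [Abelian C] {A B D : C} (a : A ⟶ B) (b : B ⟶ D)
    [Epi b] (w : a ≫ b = 0) (h : ∀ (N : C) (k : B ⟶ N), a ≫ k = 0 → ∃ l : D ⟶ N, b ≫ l = k) :
    imageSubobject a = kernelSubobject b := by
  have hS : (ShortComplex.mk a b w).Exact := by
    apply ShortComplex.exact_of_g_is_cokernel
    refine CokernelCofork.IsColimit.ofπ _ _ (fun k hk => (h _ k hk).choose)
      (fun k hk => (h _ k hk).choose_spec) (fun k hk m hm => ?_)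
    rw [← cancel_epi b, hm]
    exact (h _ k hk).choose_spec.symm
  exact (ShortComplex.exact_iff_image_eq_kernel _).mp hS

end K137.Basic
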