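import Groth.Agent.Nrm16.K137.Basic
import Groth.Agent.Smoothlim.ConormalRes
import Groth.Agent.PerfA.IdealModule

/-!
# Sections of the ideal module as functions (`OmegaSh.idealSect`)
-/

set_option autoImplicit false
universe u

open CategoryTheory CategoryTheory.Limits AlgebraicGeometry TopologicalSpace Opposite OmegaSh

namespace K137.Ideal

open Groth.Agent

variable {X : Scheme.{u}} (I : X.IdealSheafData)

theorem idealSect_eq_val {U : X.Opens} (c : Γ(ClSub.idealMod I, U)) :
    idealSect I U c = PerfA.IdealModule.val I c := rfl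

theorem idealSect_injective (U : X.Opens) : Function.Injective (idealSect I U) := fun _ _ h =>
  PerfA.IdealModule.val_injective I U h

theorem idealSect_map {U V : X.Opens} (h : V ≤ U) (c : Γ(ClSub.idealMod I, U)) :
    idealSect I V ((ClSub.idealMod I).presheaf.map (homOfLE h).op c) =
      X.presheaf.map (homOfLE h).op (idealSect I U c) :=
  PerfA.IdealModule.val_res I h c

theorem idealSect_smul (U : X.Opens) (a : Γ(X, U)) (c : Γ(ClSub.idealMod I, U)) :
    idealSect I U (a • c) = a * idealSect I U c :=
  PerfA.IdealModule.val_smul I a c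

theorem idealSect_mem (A : X.affineOpens) (c : Γ(ClSub.idealMod I, A.1)) :
    idealSect I A.1 c ∈ I.ideal A := PerfA.IdealModule.val_mem I A c

theorem exists_idealSect_eq (A : X.affineOpens) {a : Γ(X, A.1)} (ha : a ∈ I.ideal A) :
    ∃ c : Γ(ClSub.idealMod I, A.1), idealSect I A.1 c = a := PerfA.IdealModule.exists_val_eq I A ha

/-- The functions which vanish on the closed subscheme of `I` are the sections of the ideal module. -/
theorem subschemeι_app_eq_zero_iff (U : X.Opens) (a : Γ(X, U)) :
    I.subschemeι.app U a = 0 ↔ ∃ c : Γ(ClSub.idealMod I, U), idealSect I U c = a :=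
  (PerfA.IdealModule.exact_app I U) a

/-- The functions which vanish on `Z` are the sections of the ideal module. -/
theorem app_eq_zero_iff {Z : Scheme.{u}} (i : Z ⟶ X) [QuasiCompact i] (U : X.Opens) (a : Γ(X, U)) :
    i.app U a = 0 ↔ ∃ c : Γ(ClSub.idealMod i.ker, U), idealSect i.ker U c = a := by
  rw [Smoothlim.ConormalRes.app_eq_zero_iff_imageι]
  exact subschemeι_app_eq_zero_iff i.ker U a

theorem app_idealSect {Z : Scheme.{u}} (i : Z ⟶ X) [QuasiCompact i] (U : X.Opens)
    (c : Γ(ClSub.idealMod i.ker, U)) : i.app U (idealSect i.ker U c) = 0 :=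
  (app_eq_zero_iff i U _).mpr ⟨c, rfl⟩

/-- The section of the ideal module with given value. -/
noncomputable def mk {Z : Scheme.{u}} (i : Z ⟶ X) [QuasiCompact i] (U : X.Opens) (a : Γ(X, U)) (h : i.app U a = 0) :
    Γ(ClSub.idealMod i.ker, U) := ((app_eq_zero_iff i U a).mp h).choose

theorem idealSect_mk {Z : Scheme.{u}} (i : Z ⟶ X) [QuasiCompact i] (U : X.Opens) (a : Γ(X, U))
    (h : i.app U a = 0) : idealSect i.ker U (mk i U a h) = a := ((app_eq_zero_iff i U a).mp h).choose_spec

end K137.Ideal
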