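import Groth.Agent.Nrm16.K137.Nbhd
import Groth.Agent.Fga.UnitRestrict

/-!
# Sections of `P^n_{X/S}` over affine opens

* `th f n U : Γ(P f n, U) ≃ Γ(nbhd f n, pr1 ⁻¹ U)` (additive, bijective): `th_smul`, `th_dn`, `th_map`;
* `tot`: for rings `A ≅ Γ(S, V)`, `B ≅ Γ(X, U)` and `U`, `V` affine, the map
  `B ⊗[A] B → Γ(nbhd f n, pr1 ⁻¹ U)`, `b ⊗ b' ↦ pr1♯ b * pr2♯ b'` is surjective with kernel the `(n+1)`-st power of
  the kernel of the multiplication (`exists_tot`).
-/

set_option autoImplicit false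
universe u

open CategoryTheory CategoryTheory.Limits AlgebraicGeometry TopologicalSpace Opposite PrinPart
open scoped TensorProduct

namespace K137.Chart

open Groth.Agent
open Groth.Agent.CurvesB.OmegaDer (box p₁ p₂ mu p₁_mu p₂_mu mu_p₁ mu_p₂ bijective_of_isPushout)
open K137.Nbhd

section Th

variable {X S : Scheme.{u}} (f : X ⟶ S) (n : ℕ)

/-- The canonical isomorphism `h^* O_X ⟶ O_Y` on pulled back sections. -/
theorem pullbackUnitHom_pullSect {Y : Scheme.{u}} (h : Y ⟶ X) (U : X.Opens) (a : Γ(X, U)) :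
    (Fga.UnitRestrict.pullbackUnitHom h).app (h ⁻¹ᵁ U)
      (OmegaSh.pullSect h (Coh.structureModule X) U (OmegaSh.strSect X U a)) =
      OmegaSh.strSect Y (h ⁻¹ᵁ U) (h.app U a) := by
  have h1 := Fga.UnitRestrict.unit_pullbackUnitHom h
  have h2 := congr(($(h1).app U) (OmegaSh.strSect X U a))
  exact h2.trans (Fga.UnitRestrict.unitToPush_app h U a)

/-- Sections of `P^n_{X/S}` as functions on the infinitesimal neighbourhood. -/
noncomputable def th (U : X.Opens) : Γ(P f n, U) →+ Γ(nbhd f n, pr1 f n ⁻¹ᵁ U) :=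
  (OmegaSh.fnSect (nbhd f n) (pr1 f n ⁻¹ᵁ U)).comp
    ((Fga.UnitRestrict.pullbackUnitHom (pr2 f n)).app (pr1 f n ⁻¹ᵁ U)).hom

theorem th_bijective (U : X.Opens) : Function.Bijective (th f n U) := by
  have : IsIso ((Fga.UnitRestrict.pullbackUnitHom (pr2 f n)).app (pr1 f n ⁻¹ᵁ U)) := inferInstance
  exact ConcreteCategory.bijective_of_isIso ((Fga.UnitRestrict.pullbackUnitHom (pr2 f n)).app (pr1 f n ⁻¹ᵁ U))

theorem th_smul (U : X.Opens) (a : Γ(X, U)) (p : Γ(P f n, U)) :
    th f n U (a • p) = (pr1 f n).app U a * th f n U p :=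
  Scheme.Modules.Hom.app_smul (Fga.UnitRestrict.pullbackUnitHom (pr2 f n)) ((pr1 f n).app U a)
    (p : Γ((Scheme.Modules.pullback (pr2 f n)).obj (Coh.structureModule X), pr1 f n ⁻¹ᵁ U))

theorem th_map {U V : X.Opens} (h : V ≤ U) (p : Γ(P f n, U)) :
    th f n V ((P f n).presheaf.map (homOfLE h).op p) =
      (nbhd f n).presheaf.map (homOfLE ((pr1 f n).preimage_mono h)).op (th f n U p) :=
  Basic.app_res (Fga.UnitRestrict.pullbackUnitHom (pr2 f n)) ((pr1 f n).preimage_mono h)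
    (p : Γ((Scheme.Modules.pullback (pr2 f n)).obj (Coh.structureModule X), pr1 f n ⁻¹ᵁ U))

theorem th_dn (U : X.Opens) (a : Γ(X, U)) :
    th f n U (dn f n U a) = (pr2 f n).appLE U (pr1 f n ⁻¹ᵁ U) (preimage_pr1 f n U).le a := by
  have h1 := Basic.app_res (Fga.UnitRestrict.pullbackUnitHom (pr2 f n)) (preimage_pr1 f n U).le
    (OmegaSh.pullSect (pr2 f n) (Coh.structureModule X) U (OmegaSh.strSect X U a))
  rw [pullbackUnitHom_pullSect] at h1
  exact h1

end Th

section Algebra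

/-- The kernel of the composite of a ring isomorphism with a map whose kernel is a power. -/
theorem ker_comp_pow {T₀ T R B C : Type*} [CommRing T₀] [CommRing T] [CommRing R] [CommRing B] [CommRing C]
    (e : T₀ →+* T) (he : Function.Bijective e) (q : T →+* R) (μ : T →+* C) (l : T₀ →+* B) (β : B →+* C)
    (hβ : Function.Injective β) (h : μ.comp e = β.comp l) (m : ℕ) (hq : RingHom.ker q = RingHom.ker μ ^ m) :
    RingHom.ker (q.comp e) = RingHom.ker l ^ m := by
  let E : T₀ ≃+* T := RingEquiv.ofBijective e he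
  have h1 : RingHom.ker (q.comp e) = (RingHom.ker q).comap E := rfl
  have h2 : RingHom.ker l = (RingHom.ker μ).comap E := by
    ext x
    rw [RingHom.mem_ker, Ideal.mem_comap, RingHom.mem_ker]
    have h3 : μ (E x) = β (l x) := congr($h x)
    rw [h3, map_eq_zero_iff β hβ]
  rw [h1, h2, hq, ← Ideal.map_symm, ← Ideal.map_symm, Ideal.map_pow]

end Algebra

section Tot

variable {X S : Scheme.{u}} {f : X ⟶ S} {V : S.Opens} {U : X.Opens} (e : U ≤ f ⁻¹ᵁ V)
  {A B : Type u} [CommRing A] [CommRing B] [Algebra A B]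

/-- Over affine opens, `B ⊗[A] B → Γ(nbhd f n, pr1 ⁻¹ U)` is surjective, with kernel `I ^ (n + 1)`, where
`A ≅ Γ(S, V)`, `B ≅ Γ(X, U)`. -/
theorem exists_tot (n : ℕ) (hV : IsAffineOpen V) (hU : IsAffineOpen U)
    (α : CommRingCat.of A ≅ Γ(S, V)) (β : CommRingCat.of B ≅ Γ(X, U))
    (w : CommRingCat.ofHom (algebraMap A B) ≫ β.hom = α.hom ≫ f.appLE V U e) :
    ∃ t : B ⊗[A] B →+* Γ(nbhd f n, pr1 f n ⁻¹ᵁ U),
      (∀ b b', t (b ⊗ₜ b') = (pr1 f n).app U (β.hom b) *
        (pr2 f n).appLE U (pr1 f n ⁻¹ᵁ U) (preimage_pr1 f n U).le (β.hom b')) ∧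
      Function.Surjective t ∧ RingHom.ker t = KaehlerDifferential.ideal A B ^ (n + 1) := by
  have H : IsPushout (f.appLE V U e) (f.appLE V U e) (p₁ f U) (p₂ f U) :=
    (isIso_pushoutSection_iff (IsPullback.of_hasPullback f f) (US := V) (UT := U) (UX := U)
      e e (UY := box f U) rfl).mp (isIso_pushoutSection_of_isAffineOpen _ e e rfl hV hU hU)
  have H' : IsPushout (CommRingCat.ofHom (algebraMap A B)) (CommRingCat.ofHom (algebraMap A B))
      (β.hom ≫ p₁ f U) (β.hom ≫ p₂ f U) := by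
    refine H.of_iso α.symm β.symm β.symm (Iso.refl _) ?_ ?_ ?_ ?_
    · simp [Iso.eq_inv_comp, ← reassoc_of% w]
    · simp [Iso.eq_inv_comp, ← reassoc_of% w]
    · simp
    · simp
  let algT : Algebra A Γ(pullback f f, box f U) := ((β.hom ≫ p₁ f U).hom.comp (algebraMap A B)).toAlgebra
  let j₁ : B →ₐ[A] Γ(pullback f f, box f U) := { (β.hom ≫ p₁ f U).hom with commutes' := fun _ => rfl }
  let j₂ : B →ₐ[A] Γ(pullback f f, box f U) :=
    { (β.hom ≫ p₂ f U).hom with commutes' := fun a => (congr($(H'.w) a)).symm }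
  have hb := bijective_of_isPushout j₁ j₂ H'
  let E : B ⊗[A] B →+* Γ(pullback f f, box f U) := (Algebra.TensorProduct.productMap j₁ j₂).toRingHom
  have hE : ∀ b b', E (b ⊗ₜ b') = p₁ f U (β.hom b) * p₂ f U (β.hom b') := fun b b' => by
    change Algebra.TensorProduct.productMap j₁ j₂ (b ⊗ₜ b') = _
    rw [Algebra.TensorProduct.productMap_apply_tmul]
    rfl
  refine ⟨(q f n U).hom.comp E, ?_, ?_, ?_⟩
  · intro b b'
    rw [RingHom.comp_apply, hE, map_mul]
    have h1 : (q f n U).hom (p₁ f U (β.hom b)) = (pr1 f n).app U (β.hom b) := congr($(p₁_q n U) (β.hom b))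
    have h2 : (q f n U).hom (p₂ f U (β.hom b')) = _ := congr($(p₂_q n U) (β.hom b'))
    rw [h1, h2]
  · exact (q_surjective e n hV hU).comp hb.2
  · refine ker_comp_pow E hb (q f n U).hom (mu f U).hom (Algebra.TensorProduct.lmul' A : B ⊗[A] B →ₐ[A] B).toRingHom
      β.hom.hom (ConcreteCategory.bijective_of_isIso β.hom).1 ?_ (n + 1) (ker_q e n hV hU)
    refine RingHom.ext fun x => ?_
    induction x using TensorProduct.induction_on with
    | zero => simp
    | add x y hx hy => rw [map_add, map_add, hx, hy]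
    | tmul b b' =>
      rw [RingHom.comp_apply, RingHom.comp_apply, hE, map_mul]
      change mu f U (p₁ f U (β.hom b)) * mu f U (p₂ f U (β.hom b')) = _
      rw [mu_p₁, mu_p₂, ← map_mul]
      rfl

end Tot

end K137.Chart
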