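import Groth.Agent.Nrm16.K137.Basic
import Groth.Agent.Smoothlim.ConormalRes
import Mathlib.AlgebraicGeometry.Morphisms.Immersion

/-!
# Charts of an immersion and maps that factor through the source of an immersion

* `Ch i`: affine opens of the target contained in the coborder of `i`; `isAffineOpen_preimage`, `app_surjective`,
  `isBasis`, `exists_ch`;
* `exists_desc_presheaf`: for `π : Q ⟶ i_* P` surjective on charts and `D : Q ⟶ i_* F` (with `F` a sheaf) killing
  the kernel of `π`, there is `β : P ⟶ F` with `D = i_* β ∘ π`.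
-/

set_option autoImplicit false
universe u

open CategoryTheory CategoryTheory.Limits AlgebraicGeometry TopologicalSpace Opposite

namespace K137.Imm

variable {Z X : Scheme.{u}} (i : Z ⟶ X)

/-- An affine open of the target of an immersion in which the source is closed. -/
structure Ch [IsImmersion i] where
  V : X.Opens
  hV : IsAffineOpen V
  le : V ≤ i.coborderRange

section Charts

variable {i} [IsImmersion i]

theorem isAffineOpen_preimage (c : Ch i) : IsAffineOpen (i ⁻¹ᵁ c.V) := by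
  have h1 : IsAffineOpen (i.coborderRange.ι ⁻¹ᵁ c.V) := by
    apply c.hV.preimage_of_isOpenImmersion
    rw [Scheme.Opens.opensRange_ι]
    exact c.le
  have h2 := h1.preimage i.liftCoborder
  rw [← Scheme.Hom.comp_preimage, Scheme.Hom.liftCoborder_ι] at h2
  exact h2

theorem app_surjective (c : Ch i) : Function.Surjective (i.app c.V) := by
  have h1 : IsAffineOpen (i.coborderRange.ι ⁻¹ᵁ c.V) := by
    apply c.hV.preimage_of_isOpenImmersion
    rw [Scheme.Opens.opensRange_ι]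
    exact c.le
  have h2 := i.liftCoborder.app_surjective (i.coborderRange.ι ⁻¹ᵁ c.V) h1
  have h3 : i.coborderRange.ι ''ᵁ (i.coborderRange.ι ⁻¹ᵁ c.V) = c.V := by
    rw [Scheme.Hom.image_preimage_eq_opensRange_inf, Scheme.Opens.opensRange_ι]
    exact inf_eq_right.mpr c.le
  rw [liftCoborder_app] at h2
  have h4 : Function.Surjective (i.app (i.coborderRange.ι ''ᵁ (i.coborderRange.ι ⁻¹ᵁ c.V))) := by
    have h5 : Function.Bijective (Z.presheaf.map (eqToHom <|
      i.liftCoborder_preimage (i.coborderRange.ι ⁻¹ᵁ c.V)).op) := ConcreteCategory.bijective_of_isIso _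
    intro b
    obtain ⟨a, ha⟩ := h2 (Z.presheaf.map (eqToHom <|
      i.liftCoborder_preimage (i.coborderRange.ι ⁻¹ᵁ c.V)).op b)
    exact ⟨a, h5.1 ha⟩
  rw [h3] at h4
  exact h4

theorem exists_ch (z : Z) (O : Z.Opens) (hz : z ∈ O) : ∃ c : Ch i, z ∈ i ⁻¹ᵁ c.V ∧ i ⁻¹ᵁ c.V ≤ O := by
  obtain ⟨O', hO', hOO'⟩ := i.isEmbedding.isInducing.isOpen_iff.mp O.isOpen
  have hz' : i z ∈ O' := by
    have : z ∈ (i : Z → X) ⁻¹' O' := by rw [hOO']; exact hz
    exact this
  obtain ⟨_, ⟨V, hV, rfl⟩, hxV, hVO⟩ :=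
    X.isBasis_affineOpens.exists_subset_of_mem_open (a := i z)
      (u := ((⟨O', hO'⟩ : X.Opens) ⊓ i.coborderRange : X.Opens)) ⟨hz', subset_coborder ⟨z, rfl⟩⟩
      ((⟨O', hO'⟩ : X.Opens) ⊓ i.coborderRange).2
  refine ⟨⟨V, hV, fun y hy => (hVO hy).2⟩, hxV, fun y hy => ?_⟩
  have : y ∈ (i : Z → X) ⁻¹' O' := (hVO hy).1
  rw [hOO'] at this
  exact this

theorem isBasis : Opens.IsBasis (Set.range (fun c : Ch i => i ⁻¹ᵁ c.V)) := by
  rw [Opens.isBasis_iff_nbhd]
  intro O x hx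
  obtain ⟨c, hc, hcO⟩ := exists_ch (i := i) x O hx
  exact ⟨_, ⟨c, rfl⟩, hc, hcO⟩

end Charts

variable {i}

/-- Sections over equal opens. -/
theorem map_eq_of_le_le {C : TopCat.Presheaf Ab.{u} Z} {U V W : Z.Opens} (hVU : V ≤ U) (hWU : W ≤ U)
    (hVW : V = W) {x y : C.obj (op U)}
    (h : C.map (homOfLE hVU).op x = C.map (homOfLE hVU).op y) :
    C.map (homOfLE hWU).op x = C.map (homOfLE hWU).op y := by
  subst hVW
  exact h

theorem map_map (C : TopCat.Presheaf Ab.{u} Z) {U V W : Z.Opens} (h : V ≤ U) (h' : W ≤ V) (x : C.obj (op U)) :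
    C.map (homOfLE h').op (C.map (homOfLE h).op x) = C.map (homOfLE (h'.trans h)).op x := by
  rw [← ConcreteCategory.comp_apply, ← Functor.map_comp]
  rfl

theorem map_inj_of_eq (C : TopCat.Presheaf Ab.{u} Z) {U V : Z.Opens} (h : V ≤ U) (e : U ≤ V) {x y : C.obj (op U)}
    (H : C.map (homOfLE h).op x = C.map (homOfLE h).op y) : x = y := by
  have h1 := congrArg (fun t => C.map (homOfLE e).op t) H
  simp only at h1
  rw [map_map, map_map] at h1
  have h2 : (homOfLE (e.trans h)).op = 𝟙 (op U) := rfl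
  rw [h2, CategoryTheory.Functor.map_id] at h1
  exact h1

/-- Factorisation of a map through the source of an immersion. -/
theorem exists_desc_presheaf {κ : Type*} (B : κ → X.Opens) (hB : Opens.IsBasis (Set.range fun k => i ⁻¹ᵁ B k))
    (Q : TopCat.Presheaf Ab.{u} X) (P F : TopCat.Presheaf Ab.{u} Z) (hF : F.IsSheaf)
    (π : ∀ U : X.Opens, Q.obj (op U) →+ P.obj (op (i ⁻¹ᵁ U)))
    (hπ : ∀ (U V : X.Opens) (h : V ≤ U) (q : Q.obj (op U)),
      π V (Q.map (homOfLE h).op q) = P.map (homOfLE (i.preimage_mono h)).op (π U q))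
    (D : ∀ U : X.Opens, Q.obj (op U) →+ F.obj (op (i ⁻¹ᵁ U)))
    (hD : ∀ (U V : X.Opens) (h : V ≤ U) (q : Q.obj (op U)),
      D V (Q.map (homOfLE h).op q) = F.map (homOfLE (i.preimage_mono h)).op (D U q))
    (hsurj : ∀ k, Function.Surjective (π (B k))) (hker : ∀ U q, π U q = 0 → D U q = 0) :
    ∃ β : P ⟶ F, ∀ (U : X.Opens) (q : Q.obj (op U)), β.app (op (i ⁻¹ᵁ U)) (π U q) = D U q := by
  have hker' : ∀ U q q', π U q = π U q' → D U q = D U q' := fun U q q' h => by
    rw [← sub_eq_zero, ← map_sub] at h ⊢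
    exact hker _ _ h
  -- comparison on two opens
  have key : ∀ (U U' : X.Opens) (hUU' : i ⁻¹ᵁ U' ≤ i ⁻¹ᵁ U) (q : Q.obj (op U)) (q' : Q.obj (op U')),
      P.map (homOfLE hUU').op (π U q) = π U' q' → F.map (homOfLE hUU').op (D U q) = D U' q' := by
    intro U U' hUU' q q' h
    have hW : i ⁻¹ᵁ (U ⊓ U') = i ⁻¹ᵁ U' := by
      apply le_antisymm (i.preimage_mono inf_le_right)
      intro z hz
      exact ⟨hUU' hz, hz⟩
    have h1 : π (U ⊓ U') (Q.map (homOfLE inf_le_left).op q) = π (U ⊓ U') (Q.map (homOfLE inf_le_right).op q') := by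
      rw [hπ, hπ, ← h, map_map]
    have h2 := hker' _ _ _ h1
    rw [hD, hD] at h2
    refine map_inj_of_eq F (i.preimage_mono inf_le_right : i ⁻¹ᵁ (U ⊓ U') ≤ i ⁻¹ᵁ U') hW.ge ?_
    rw [← h2, map_map]
  let φ : ∀ k, P.obj (op (i ⁻¹ᵁ B k)) →+ F.obj (op (i ⁻¹ᵁ B k)) := fun k =>
    { toFun := fun p => D (B k) (hsurj k p).choose
      map_zero' := by
        apply hker
        exact (hsurj k 0).choose_spec
      map_add' := fun p p' => by
        rw [← map_add]
        apply hker'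
        rw [map_add, (hsurj k (p + p')).choose_spec, (hsurj k p).choose_spec, (hsurj k p').choose_spec] }
  have hφ : ∀ k q, φ k (π (B k) q) = D (B k) q := fun k q =>
    hker' _ _ _ (hsurj k (π (B k) q)).choose_spec
  let α : (inducedFunctor fun k => i ⁻¹ᵁ B k).op ⋙ P ⟶ (inducedFunctor fun k => i ⁻¹ᵁ B k).op ⋙ F :=
    { app := fun k => AddCommGrpCat.ofHom (φ k.unop)
      naturality := fun k k' g => by
        ext p
        obtain ⟨q, rfl⟩ := hsurj k.unop p
        obtain ⟨q', hq'⟩ := hsurj k'.unop (P.map (homOfLE (leOfHom g.unop.hom)).op (π (B k.unop) q))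
        have h1 := key _ _ (leOfHom g.unop.hom) q q' hq'.symm
        change φ k'.unop (P.map (homOfLE (leOfHom g.unop.hom)).op (π (B k.unop) q)) =
          F.map (homOfLE (leOfHom g.unop.hom)).op (φ k.unop (π (B k.unop) q))
        rw [← hq', hφ, hφ, h1] }
  let β : P ⟶ F := TopCat.Sheaf.restrictHomEquivHom P ⟨F, hF⟩ hB α
  have hβ : ∀ k (s : P.obj (op (i ⁻¹ᵁ B k))), β.app (op (i ⁻¹ᵁ B k)) s = φ k s := by
    intro k s
    have := TopCat.Sheaf.extend_hom_app P ⟨F, hF⟩ hB α k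
    change (β.app (op (i ⁻¹ᵁ B k))) s = (α.app (op k)) s
    exact congr($this s)
  have hnat : ∀ (U V : Z.Opens) (h : V ≤ U) (s : P.obj (op U)),
      β.app (op V) (P.map (homOfLE h).op s) = F.map (homOfLE h).op (β.app (op U) s) := by
    intro U V h s
    exact NatTrans.naturality_apply β _ _
  refine ⟨β, fun U q => ?_⟩
  refine TopCat.Sheaf.eq_of_locally_eq' ⟨F, hF⟩
    (fun k : {k : κ // i ⁻¹ᵁ B k ≤ i ⁻¹ᵁ U} => i ⁻¹ᵁ B k.1) (i ⁻¹ᵁ U) (fun k => homOfLE k.2) ?_ _ _ ?_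
  · intro z hz
    obtain ⟨_, ⟨k, rfl⟩, hzk, hk⟩ := Opens.isBasis_iff_nbhd.mp hB hz
    exact Opens.mem_iSup.mpr ⟨⟨k, hk⟩, hzk⟩
  · rintro ⟨k, hk⟩
    obtain ⟨q', hq'⟩ := hsurj k (P.map (homOfLE hk).op (π U q))
    have h1 := key _ _ hk q q' hq'.symm
    change F.map (homOfLE hk).op (β.app (op (i ⁻¹ᵁ U)) (π U q)) = F.map (homOfLE hk).op (D U q)
    rw [← hnat, ← hq', hβ, hφ, h1]

end K137.Imm
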