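import Groth.Agent.Smoothlim.ConormalRes
import Groth.Agent.IntTh.K712.IdealStalk
import Groth.Agent.Ega1.SuppTensorMod
import Groth.Agent.Sga3A.H781.EssFree
import Groth.Agent.CohqA.IdealMod
import Groth.Agent.FinCond.K653.LocalIso
import Mathlib.AlgebraicGeometry.Morphisms.Immersion

/-!
# The conormal sheaf vanishes at a point iff the immersion is open there

* `subsingleton_stalk_idealMod_iff`: `(I~)_x = 0` iff the stalk of `I` at `x` is zero;
* `isIso_stalkMap_iff`: for a closed immersion locally of finite presentation, `O_{X, j y} → O_{Y, y}` is an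
  isomorphism iff the conormal sheaf vanishes at `y`.
-/

set_option autoImplicit false
universe u

open CategoryTheory CategoryTheory.Limits AlgebraicGeometry TopologicalSpace Opposite

namespace K137.ConZero

open Groth.Agent

variable {X Y : Scheme.{u}}

theorem subsingleton_stalk_idealMod_iff (I : X.IdealSheafData) (x : X) :
    Subsingleton ((ClSub.idealMod I).presheaf.stalk x) ↔ IntMult.stalkIdeal I x = ⊥ := by
  constructor
  · intro h
    rw [eq_bot_iff]
    intro a ha
    obtain ⟨t, rfl⟩ := K712.IdealStalk.exists_sval_eq I x ha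
    rw [Subsingleton.elim t 0, map_zero]
    exact zero_mem _
  · intro h
    refine subsingleton_of_forall_eq 0 fun t => ?_
    apply K712.IdealStalk.sval_injective I x
    have := K712.IdealStalk.sval_mem I x t
    rw [h, Ideal.mem_bot] at this
    rw [this, map_zero]

theorem isIso_stalkMap_iff (j : Y ⟶ X) [IsClosedImmersion j] [LocallyOfFinitePresentation j] (y : Y) :
    IsIso (j.stalkMap y) ↔ Subsingleton ((Omega.conormal j).presheaf.stalk y) := by
  have hFT : CohB1.IsFT (ClSub.idealMod j.ker) :=
    CohqA.IdealMod.isFT_idealMod _ (Sga3A.H781.EssFree.fg_ker_ideal j)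
  have h1 : Subsingleton ((Omega.conormal j).presheaf.stalk y) ↔
      Subsingleton ((ClSub.idealMod j.ker).presheaf.stalk (j y)) :=
    not_iff_not.1 (Ega1.SuppTensorMod.mem_support_pullback j (ClSub.idealMod j.ker) hFT y)
  rw [h1, subsingleton_stalk_idealMod_iff, CycA.StalkIdeal.stalkIdeal_ker,
    ← RingHom.injective_iff_ker_eq_bot, ConcreteCategory.isIso_iff_bijective]
  exact ⟨fun h => h.1, fun h => ⟨h, j.stalkMap_surjective y⟩⟩

theorem isPullback_liftCoborder (j : Y ⟶ X) [IsImmersion j] :
    IsPullback j.liftCoborder (𝟙 Y) j.coborderRange.ι j where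
  w := by simp
  isLimit' := ⟨PullbackCone.IsLimit.mk _ (fun s => s.snd)
    (fun s => by
      rw [← cancel_mono j.coborderRange.ι, Category.assoc, Scheme.Hom.liftCoborder_ι]
      exact s.condition.symm)
    (fun s => Category.comp_id _)
    (fun s m _ h => (Category.comp_id m).symm.trans h)⟩

/-- The conormal sheaf of an immersion and of the closed immersion into the coborder. -/
noncomputable def conormalIso (j : Y ⟶ X) [IsImmersion j] [QuasiCompact j] :
    Omega.conormal j ≅ Omega.conormal j.liftCoborder :=
  ((Scheme.Modules.pullbackId Y).app (Omega.conormal j)).symm ≪≫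
    Smoothlim.ConormalRes.conormalIso (isPullback_liftCoborder j)

end K137.ConZero
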