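import Groth.Agent.Nrm16.K137.InfNbhd
import Groth.Agent.CurvesB.OmegaDer
import Mathlib.AlgebraicGeometry.Morphisms.Affine

/-!
# The infinitesimal neighbourhoods of the diagonal over affine opens

For `f : X ⟶ S`, `U` an affine open of `X` over an affine open `V` of `S` (`e : U ≤ f ⁻¹ᵁ V`):
* `box f U = U ×_S U` is contained in the coborder of the diagonal (`box_le_coborderRange`); `chBox`;
* `isAffineOpen_pr1`, `isAffineOpen_pr2`: `pr1 ⁻¹ U = pr2 ⁻¹ U` is affine; `pr1`, `pr2` are affine morphisms;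
* `q f n U : Γ(X ×_S X, box f U) ⟶ Γ(nbhd f n, pr1 ⁻¹ U)` is surjective with kernel `(ker mu) ^ (n + 1)`
  (`q_surjective`, `ker_q`), `p₁_q`, `p₂_q`;
* `exists_lift`, `exists_map`: universal property and functoriality of `nbhd`.
-/

set_option autoImplicit false
universe u

open CategoryTheory CategoryTheory.Limits AlgebraicGeometry TopologicalSpace Opposite PrinPart

namespace K137.Nbhd

open Groth.Agent.CurvesB.OmegaDer (box preimage_box p₁ p₂ mu p₁_mu p₂_mu mu_p₁ mu_p₂ algX algP i₁ i₂ p₂_comp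
  bijective_productMap isAffineOpen_box box_le_fst box_le_snd)

variable {X S : Scheme.{u}} (f : X ⟶ S)

instance mono_nbhdι (n : ℕ) : Mono (nbhdι f n) := by
  unfold nbhdι
  infer_instance

/-- The universal property of the infinitesimal neighbourhoods of the diagonal. -/
theorem exists_lift (n : ℕ) {T X' : Scheme.{u}} (t : X' ⟶ T) (ht : t.ker ^ (n + 1) = ⊥) [Surjective t]
    (a : T ⟶ pullback f f) (u : X' ⟶ X) (w : t ≫ a = u ≫ pullback.diagonal f) :
    ∃ l : T ⟶ nbhd f n, l ≫ nbhdι f n = a := by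
  have h1 : Set.range a ⊆ Set.range (pullback.diagonal f).coborderRange.ι := by
    rw [Scheme.Opens.range_ι]
    rintro _ ⟨x, rfl⟩
    obtain ⟨y, rfl⟩ := t.surjective x
    rw [← Scheme.Hom.comp_apply, w, Scheme.Hom.comp_apply]
    exact subset_coborder ⟨_, rfl⟩
  let a' : T ⟶ (pullback.diagonal f).coborderRange := IsOpenImmersion.lift _ a h1
  have ha' : a' ≫ (pullback.diagonal f).coborderRange.ι = a := IsOpenImmersion.lift_fac _ _ _
  obtain ⟨l, hl⟩ := InfNbhd.exists_lift (diagCl f) n t ht a' u (by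
    rw [← cancel_mono (pullback.diagonal f).coborderRange.ι, Category.assoc, ha', w, Category.assoc,
      Scheme.Hom.liftCoborder_ι])
  exact ⟨l, by rw [nbhdι, reassoc_of% hl, ha']⟩

theorem ker_toNbhd_pow (n : ℕ) : (toNbhd f n).ker ^ (n + 1) = ⊥ :=
  InfNbhd.ker_toInfNbhd_pow (diagCl f) n

instance surjective_toNbhd (n : ℕ) : Surjective (toNbhd f n) := ⟨toInfNbhd_surjective (diagCl f) n⟩

/-- Functoriality of the infinitesimal neighbourhoods of the diagonal. -/
theorem exists_map (n : ℕ) {X' S' : Scheme.{u}} (f' : X' ⟶ S') (a : nbhd f' n ⟶ pullback f f) (u : X' ⟶ X)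
    (w : toNbhd f' n ≫ a = u ≫ pullback.diagonal f) : ∃ l : nbhd f' n ⟶ nbhd f n, l ≫ nbhdι f n = a :=
  exists_lift f n (toNbhd f' n) (ker_toNbhd_pow f' n) a u w

section Chart

variable {f} {V : S.Opens} {U : X.Opens} (e : U ≤ f ⁻¹ᵁ V)

theorem diagonal_app_surjective : Function.Surjective ((pullback.diagonal f).app (box f U)) := by
  have h1 : Function.Surjective (mu f U) := fun s => ⟨p₁ f U s, mu_p₁ f U s⟩
  have h2 : ∀ a, mu f U a = X.presheaf.map (eqToHom (preimage_box f U).symm).op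
      ((pullback.diagonal f).app (box f U) a) := fun a => rfl
  have h3 : Function.Injective (X.presheaf.map (eqToHom (preimage_box f U).symm).op) :=
    (ConcreteCategory.bijective_of_isIso _).1
  intro b
  obtain ⟨a, ha⟩ := h1 (X.presheaf.map (eqToHom (preimage_box f U).symm).op b)
  rw [h2] at ha
  exact ⟨a, h3 ha⟩

include e in
theorem box_le_coborderRange (hV : IsAffineOpen V) (hU : IsAffineOpen U) :
    box f U ≤ (pullback.diagonal f).coborderRange := by
  apply InfNbhd.le_coborderRange_of_surjective _ (isAffineOpen_box f e hV hU)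
  · rw [preimage_box]
    exact hU
  · exact diagonal_app_surjective

/-- The chart `U ×_S U` of the diagonal. -/
noncomputable abbrev chBox (hV : IsAffineOpen V) (hU : IsAffineOpen U) : Imm.Ch (pullback.diagonal f) :=
  ⟨box f U, isAffineOpen_box f e hV hU, box_le_coborderRange e hV hU⟩

theorem preimage_nbhdι (n : ℕ) (U : X.Opens) : nbhdι f n ⁻¹ᵁ box f U = pr1 f n ⁻¹ᵁ U := by
  have h1 : nbhdι f n ⁻¹ᵁ box f U = pr1 f n ⁻¹ᵁ U ⊓ pr2 f n ⁻¹ᵁ U := rfl
  rw [h1, preimage_pr1, inf_idem]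

include e in
theorem isAffineOpen_pr1 (n : ℕ) (hV : IsAffineOpen V) (hU : IsAffineOpen U) :
    IsAffineOpen (pr1 f n ⁻¹ᵁ U) := by
  rw [← preimage_nbhdι]
  exact InfNbhd.isAffineOpen_imm n (chBox e hV hU)

include e in
theorem isAffineOpen_pr2 (n : ℕ) (hV : IsAffineOpen V) (hU : IsAffineOpen U) :
    IsAffineOpen (pr2 f n ⁻¹ᵁ U) := by
  rw [← preimage_pr1]
  exact isAffineOpen_pr1 e n hV hU

variable (f) in
theorem pr1_le (n : ℕ) (U : X.Opens) : pr1 f n ⁻¹ᵁ U ≤ nbhdι f n ⁻¹ᵁ box f U := (preimage_nbhdι n U).ge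

variable (f) in
/-- Functions on `U ×_S U` restricted to the infinitesimal neighbourhood. -/
noncomputable def q (n : ℕ) (U : X.Opens) : Γ(pullback f f, box f U) ⟶ Γ(nbhd f n, pr1 f n ⁻¹ᵁ U) :=
  (nbhdι f n).appLE (box f U) (pr1 f n ⁻¹ᵁ U) (pr1_le f n U)

variable (f) in
theorem q_eq (n : ℕ) (U : X.Opens) : q f n U =
    (nbhdι f n).app (box f U) ≫ (nbhd f n).presheaf.map (eqToHom (preimage_nbhdι n U).symm).op := rfl

include e in
theorem q_surjective (n : ℕ) (hV : IsAffineOpen V) (hU : IsAffineOpen U) : Function.Surjective (q f n U) := by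
  have h1 : Function.Surjective ((nbhdι f n).app (box f U)) := InfNbhd.imm_app_surjective n (chBox e hV hU)
  have h2 : Function.Surjective ((nbhd f n).presheaf.map (eqToHom (preimage_nbhdι n U).symm).op) :=
    (ConcreteCategory.bijective_of_isIso _).2
  rw [q_eq]
  exact h2.comp h1

theorem ker_mu : RingHom.ker (mu f U).hom = RingHom.ker ((pullback.diagonal f).app (box f U)).hom := by
  have h2 : ∀ a, mu f U a = X.presheaf.map (eqToHom (preimage_box f U).symm).op
      ((pullback.diagonal f).app (box f U) a) := fun a => rfl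
  have h3 : Function.Injective (X.presheaf.map (eqToHom (preimage_box f U).symm).op) :=
    (ConcreteCategory.bijective_of_isIso _).1
  ext a
  rw [RingHom.mem_ker, RingHom.mem_ker]
  change mu f U a = 0 ↔ _
  rw [h2]
  exact map_eq_zero_iff _ h3

include e in
theorem ker_q (n : ℕ) (hV : IsAffineOpen V) (hU : IsAffineOpen U) :
    RingHom.ker (q f n U).hom = RingHom.ker (mu f U).hom ^ (n + 1) := by
  have h1 : RingHom.ker ((nbhdι f n).app (box f U)).hom = _ := InfNbhd.ker_imm_app n (chBox e hV hU)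
  have h3 : Function.Injective ((nbhd f n).presheaf.map (eqToHom (preimage_nbhdι n U).symm).op) :=
    (ConcreteCategory.bijective_of_isIso _).1
  rw [ker_mu]
  refine Eq.trans ?_ h1
  ext a
  rw [RingHom.mem_ker, RingHom.mem_ker, q_eq]
  exact map_eq_zero_iff _ h3

theorem p₁_q (n : ℕ) (U : X.Opens) : p₁ f U ≫ q f n U = (pr1 f n).app U := by
  rw [p₁, q, Scheme.Hom.appLE_comp_appLE]
  exact Scheme.Hom.appLE_eq_app (pr1 f n)

theorem p₂_q (n : ℕ) (U : X.Opens) :
    p₂ f U ≫ q f n U = (pr2 f n).appLE U (pr1 f n ⁻¹ᵁ U) (preimage_pr1 f n U).le := by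
  rw [p₂, q, Scheme.Hom.appLE_comp_appLE]
  rfl

end Chart

instance isAffineHom_pr1 (n : ℕ) : IsAffineHom (pr1 f n) := by
  apply isAffineHom_of_forall_exists_isAffineOpen
  intro x
  obtain ⟨V, U, -, hx, -, -, e⟩ := Groth.Agent.Divis.IdealComap.exists_affine_le f x ⊤ trivial ⊤ trivial
  exact ⟨U.1, hx, U.2, isAffineOpen_pr1 e n V.2 U.2⟩

instance isAffineHom_pr2 (n : ℕ) : IsAffineHom (pr2 f n) := by
  apply isAffineHom_of_forall_exists_isAffineOpen
  intro x
  obtain ⟨V, U, -, hx, -, -, e⟩ := Groth.Agent.Divis.IdealComap.exists_affine_le f x ⊤ trivial ⊤ trivial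
  exact ⟨U.1, hx, U.2, isAffineOpen_pr2 e n V.2 U.2⟩

end K137.Nbhd
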