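import Groth.Agent.Nrm16.K137.Chart
import Groth.Agent.S5969
import Mathlib.AlgebraicGeometry.Morphisms.Finite
import Mathlib.AlgebraicGeometry.Morphisms.FinitePresentation

/-!
# The projections of the infinitesimal neighbourhoods of the diagonal

* `isIntegralHom_pr1`, `isIntegralHom_pr2`: they are integral (instances);
* `isFinite_pr1`, `isFinite_pr2`: finite if `f` is locally of finite type (instances);
* `lfp_pr1`, `lfp_pr2`: locally of finite presentation if `f` is (instances);
* `exists_iso`: the automorphism of `nbhd f n` which exchanges the projections;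
* `lft_nbhdι`: `nbhdι` is locally of finite type (instance).
-/

set_option autoImplicit false
universe u

open CategoryTheory CategoryTheory.Limits AlgebraicGeometry TopologicalSpace Opposite PrinPart
open scoped TensorProduct

namespace K137.Finite

open K137.Nbhd K137.Chart

variable {X S : Scheme.{u}} (f : X ⟶ S) (n : ℕ)

theorem isIntegralHom_of_section {Z : Scheme.{u}} (p : Z ⟶ X) [IsAffineHom p] (s : X ⟶ Z) [Surjective s]
    (h : s ≫ p = 𝟙 X) : IsIntegralHom p := by
  rw [IsIntegralHom.iff_universallyClosed_and_isAffineHom]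
  refine ⟨?_, inferInstance⟩
  have : UniversallyClosed (s ≫ p) := by rw [h]; infer_instance
  exact UniversallyClosed.of_comp_surjective s p

instance isIntegralHom_pr1 : IsIntegralHom (pr1 f n) :=
  isIntegralHom_of_section _ (toNbhd f n) (toNbhd_pr1 f n)

instance isIntegralHom_pr2 : IsIntegralHom (pr2 f n) :=
  isIntegralHom_of_section _ (toNbhd f n) (toNbhd_pr2 f n)

instance lft_nbhdι : LocallyOfFiniteType (nbhdι f n) := by
  have : IsClosedImmersion (infNbhdι (diagCl f) n) := InfNbhd.isClosedImmersion_infNbhdι _ _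
  rw [nbhdι]
  infer_instance

instance isFinite_pr1 [LocallyOfFiniteType f] : IsFinite (pr1 f n) := by
  rw [IsFinite.iff_isIntegralHom_and_locallyOfFiniteType]
  refine ⟨inferInstance, ?_⟩
  rw [pr1]
  infer_instance

instance isFinite_pr2 [LocallyOfFiniteType f] : IsFinite (pr2 f n) := by
  rw [IsFinite.iff_isIntegralHom_and_locallyOfFiniteType]
  refine ⟨inferInstance, ?_⟩
  rw [pr2]
  infer_instance

theorem exists_chart {Z : Scheme.{u}} (p : Z ⟶ X) (z : Z) :
    ∃ (V : S.Opens) (U : X.Opens) (_ : IsAffineOpen V) (_ : IsAffineOpen U) (_ : U ≤ f ⁻¹ᵁ V), p z ∈ U := by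
  obtain ⟨_, ⟨V, hV, rfl⟩, hxV, -⟩ :=
    S.isBasis_affineOpens.exists_subset_of_mem_open (Set.mem_univ (f (p z))) isOpen_univ
  obtain ⟨_, ⟨U, hU, rfl⟩, hxU, hUV⟩ :=
    X.isBasis_affineOpens.exists_subset_of_mem_open (a := p z) (u := (f ⁻¹ᵁ V : X.Opens))
      hxV (f ⁻¹ᵁ V).isOpen
  exact ⟨V, U, hV, hU, hUV, hxU⟩

instance lfp_pr1 [LocallyOfFinitePresentation f] : LocallyOfFinitePresentation (pr1 f n) := by
  rw [HasRingHomProperty.iff_exists_appLE (P := @LocallyOfFinitePresentation)
    (RingHom.finitePresentation_stableUnderComposition.stableUnderCompositionWithLocalizationAway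
      RingHom.finitePresentation_holdsForLocalizationAway).left]
  intro z
  obtain ⟨V, U, hV, hU, e, hz⟩ := exists_chart f (pr1 f n) z
  refine ⟨⟨U, hU⟩, ⟨pr1 f n ⁻¹ᵁ U, isAffineOpen_pr1 e n hV hU⟩, hz, le_rfl, ?_⟩
  let alg := (f.appLE V U e).hom.toAlgebra
  have hfp : Algebra.FinitePresentation Γ(S, V) Γ(X, U) := f.finitePresentation_appLE hV hU e
  obtain ⟨t, ht, hs, hk⟩ := exists_tot e (A := Γ(S, V)) (B := Γ(X, U)) n hV hU (Iso.refl _) (Iso.refl _) rfl
  have h1 : ((pr1 f n).appLE U (pr1 f n ⁻¹ᵁ U) le_rfl).hom =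
      t.comp (algebraMap Γ(X, U) (Γ(X, U) ⊗[Γ(S, V)] Γ(X, U))) := by
    ext b
    rw [Scheme.Hom.appLE_eq_app, RingHom.comp_apply]
    change _ = t (b ⊗ₜ 1)
    rw [ht]
    change _ = (pr1 f n).app U b * (pr2 f n).appLE U _ _ 1
    rw [map_one, mul_one]
  change RingHom.FinitePresentation ((pr1 f n).appLE U (pr1 f n ⁻¹ᵁ U) le_rfl).hom
  rw [h1]
  refine RingHom.FinitePresentation.comp_surjective ?_ hs ?_
  · exact (RingHom.finitePresentation_algebraMap).2 inferInstance
  · rw [hk]
    exact (KaehlerDifferential.ideal_fg Γ(S, V) Γ(X, U)).pow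

/-- The automorphism of `nbhd f n` which exchanges the projections. -/
theorem exists_iso : ∃ σ : nbhd f n ≅ nbhd f n, σ.hom ≫ pr1 f n = pr2 f n ∧ σ.hom ≫ pr2 f n = pr1 f n := by
  obtain ⟨σ, -, h, h1, h2, -⟩ := Groth.Agent.S5969.result f n
  exact ⟨⟨σ, σ, h, h⟩, h1, h2⟩

instance lfp_pr2 [LocallyOfFinitePresentation f] : LocallyOfFinitePresentation (pr2 f n) := by
  obtain ⟨σ, h1, -⟩ := exists_iso f n
  rw [← h1]
  infer_instance

end K137.Finite
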