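import Groth.Agent.Nrm16.K137.Homeo
import Groth.Agent.Nrm16.K137.Finite
import Groth.Agent.Dcoh.FlatRes
import Mathlib.AlgebraicGeometry.Morphisms.Flat

/-!
# Flatness of the sheaf of principal parts

* `flat_of_isFlat_push`: if `i` is inducing and `i_* O_Z` is flat then `i` is flat;
* `flat_pr1`, `flat_pr2`: if `P^n_{X/S}` is flat then the projections are flat.
-/

set_option autoImplicit false
universe u

open CategoryTheory CategoryTheory.Limits AlgebraicGeometry TopologicalSpace Opposite PrinPart

namespace K137.FlatPr

open Groth.Agent Groth.Agent.CycB Groth.Agent.CycB.StalkExact K137.Homeo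

variable {X Z : Scheme.{u}}

theorem flat_of_isFlat_push (i : Z ⟶ X) (hi : Topology.IsInducing i)
    (h : FlatMod.IsFlat ((Scheme.Modules.pushforward i).obj (Coh.structureModule Z))) : Flat i := by
  refine Flat.of_stalkMap _ fun z => ?_
  have h1 : Module.Flat (X.presheaf.stalk (i z))
    (((Scheme.Modules.pushforward i).obj (Coh.structureModule Z)).presheaf.stalk (i z)) := h (i z)
  let := (i.stalkMap z).hom.toAlgebra
  let e := LinearEquiv.ofBijective _ (PushStalk.unitStalkLin_bijective (X := Z) z)
  let a := PushStalk.pushStalk i (Coh.structureModule Z) z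
  have ha : Function.Bijective a := PushStalk.pushStalk_bijective i hi _ z
  let L : ((Scheme.Modules.pushforward i).obj (Coh.structureModule Z)).presheaf.stalk (i z) →ₗ[
      X.presheaf.stalk (i z)] Z.presheaf.stalk z :=
    { toFun := fun m => e.symm (a m)
      map_add' := fun m m' => by rw [map_add, map_add]
      map_smul' := fun r m => by
        rw [map_smulₛₗ, map_smul]
        rfl }
  have hL : Function.Bijective L := e.symm.bijective.comp ha
  exact Module.Flat.of_linearEquiv (LinearEquiv.ofBijective L hL).symm

variable {S : Scheme.{u}} (f : X ⟶ S) (n : ℕ)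

theorem flat_pr1 (h : FlatMod.IsFlat (P f n)) : Flat (pr1 f n) := by
  refine flat_of_isFlat_push _ (isEmbedding_pr1 f n).isInducing ?_
  have : IsIso (Fga.UnitRestrict.pullbackUnitHom (pr2 f n)) := inferInstance
  exact Dcoh.FlatRes.isFlat_of_iso
    ((Scheme.Modules.pushforward (pr1 f n)).mapIso (asIso (Fga.UnitRestrict.pullbackUnitHom (pr2 f n)))) h

theorem flat_pr2 (h : FlatMod.IsFlat (P f n)) : Flat (pr2 f n) := by
  have := flat_pr1 f n h
  obtain ⟨σ, h1, -⟩ := K137.Finite.exists_iso f n
  rw [← h1]
  infer_instance

end K137.FlatPr
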