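import Mathlib.RingTheory.IsTensorProduct
import Mathlib.RingTheory.Flat.Equalizer
import Mathlib.RingTheory.Ideal.Maps

/-!
# Graded pieces of an ideal with a section, and base change

`A → B → A` with composite the identity, `I = ker (B → A)`; `B' = A' ⊗[A] B`, `I' = ker (B' → A')`.

* `ker_eq_map`, `ker_pow_eq_map`: `I' = I B'`;
* `GrData I f n c`: `c : I ^ n → G` is the quotient map by `I ^ (n + 1)`, semi-linear along `f : B → A`;
* `injective_of_flat`: if the graded pieces below `n` are flat then `A' ⊗ I ^ n → A' ⊗ B` is injective;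
* `bijective_gr`: if `A' ⊗ I ^ n → A' ⊗ B` is injective then `A' ⊗ I ^ n / I ^ (n + 1) → I' ^ n / I' ^ (n + 1)` is
  bijective.
-/

set_option autoImplicit false
universe u
open scoped TensorProduct

namespace K137.GrAlg

section Gr

variable {B A G : Type u} [CommRing B] [CommRing A] [AddCommGroup G] [Module A G]

/-- `c : I ^ n → G` is the quotient map by `I ^ (n + 1)`, semi-linear along `f`. -/
structure GrData (f : B →+* A) (n : ℕ) (c : ↥(RingHom.ker f ^ n) →+ G) : Prop where
  surj : Function.Surjective c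
  ker : ∀ x, c x = 0 ↔ (x : B) ∈ RingHom.ker f ^ (n + 1)
  smul : ∀ b x, c (b • x) = f b • c x

end Gr

variable {A B A' B' : Type u} [CommRing A] [CommRing B] [CommRing A'] [CommRing B'] [Algebra A B] [Algebra A A']
  [Algebra A B'] [Algebra B B'] [Algebra A' B'] [IsScalarTower A B B'] [IsScalarTower A A' B']
  (f : B →+* A) (f' : B' →+* A')

/-- `A' ⊗ B → B'`. -/
noncomputable def β : A' ⊗[A] B →ₐ[A'] B' :=
  Algebra.TensorProduct.lift (Algebra.ofId A' B') (IsScalarTower.toAlgHom A B B') (fun _ _ => Commute.all _ _)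

theorem β_tmul (a : A') (b : B) : β (B' := B') (a ⊗ₜ[A] b) = algebraMap A' B' a * algebraMap B B' b := rfl

theorem β_bijective [h : Algebra.IsPushout A A' B B'] : Function.Bijective (β (A := A) (B := B) (A' := A') (B' := B')) := by
  have h1 := h.out.equiv.bijective
  have h2 : ∀ x, β (A := A) (B := B) (A' := A') (B' := B') x = h.out.equiv x := by
    intro x
    induction x using TensorProduct.induction_on with
    | zero => simp
    | add x y hx hy => rw [map_add, map_add, hx, hy]
    | tmul a b => rw [β_tmul, IsBaseChange.equiv_tmul, Algebra.smul_def]; rfl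
  exact (funext h2 : ⇑β = ⇑h.out.equiv) ▸ h1

theorem exists_sum [Algebra.IsPushout A A' B B'] (J : Ideal B) {x : B'} (hx : x ∈ J.map (algebraMap B B')) :
    ∃ w : A' ⊗[A] (J.restrictScalars A), β ((J.restrictScalars A).subtype.lTensor A' w) = x := by
  refine Submodule.span_induction ?_ ?_ ?_ ?_ hx
  · rintro _ ⟨b, hb, rfl⟩
    exact ⟨1 ⊗ₜ ⟨b, hb⟩, by rw [LinearMap.lTensor_tmul, β_tmul, map_one, one_mul]; rfl⟩
  · exact ⟨0, by rw [map_zero, map_zero]⟩
  · rintro x y - - ⟨w, rfl⟩ ⟨w', rfl⟩
    exact ⟨w + w', by rw [map_add, map_add]⟩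
  · rintro r x - ⟨w, rfl⟩
    obtain ⟨t, rfl⟩ := (β_bijective (A := A) (B := B) (A' := A') (B' := B')).2 r
    induction w using TensorProduct.induction_on with
    | zero => exact ⟨0, by simp⟩
    | add w w' hw hw' =>
      obtain ⟨z, hz⟩ := hw
      obtain ⟨z', hz'⟩ := hw'
      exact ⟨z + z', by rw [map_add, map_add, hz, hz', map_add, map_add, smul_add]⟩
    | tmul a j =>
      induction t using TensorProduct.induction_on with
      | zero => exact ⟨0, by simp⟩
      | add t t' ht ht' =>
        obtain ⟨z, hz⟩ := ht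
        obtain ⟨z', hz'⟩ := ht'
        exact ⟨z + z', by rw [map_add, map_add, hz, hz', map_add, add_smul]⟩
      | tmul a₁ b₁ =>
        refine ⟨(a₁ * a) ⊗ₜ ⟨b₁ * j.1, J.mul_mem_left _ j.2⟩, ?_⟩
        rw [LinearMap.lTensor_tmul, LinearMap.lTensor_tmul, β_tmul, β_tmul, β_tmul, smul_eq_mul, map_mul]
        change _ * algebraMap B B' (b₁ * j.1) = _ * (_ * algebraMap B B' j.1)
        rw [map_mul]
        ring

theorem ker_eq_map [Algebra.IsPushout A A' B B'] (hf : ∀ a, f (algebraMap A B a) = a)
    (hf' : ∀ a, f' (algebraMap A' B' a) = a) (hc : ∀ b, f' (algebraMap B B' b) = algebraMap A A' (f b)) :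
    RingHom.ker f' = (RingHom.ker f).map (algebraMap B B') := by
  apply le_antisymm
  · intro x hx
    have key : ∀ x : B', ∃ a : A', x - algebraMap A' B' a ∈ (RingHom.ker f).map (algebraMap B B') := by
      intro x
      obtain ⟨t, rfl⟩ := (β_bijective (A := A) (B := B) (A' := A') (B' := B')).2 x
      induction t using TensorProduct.induction_on with
      | zero => exact ⟨0, by simp⟩
      | add t t' ht ht' =>
        obtain ⟨a, ha⟩ := ht
        obtain ⟨a', ha'⟩ := ht'
        refine ⟨a + a', ?_⟩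
        rw [map_add, map_add, add_sub_add_comm]
        exact add_mem ha ha'
      | tmul a b =>
        refine ⟨a * algebraMap A A' (f b), ?_⟩
        rw [β_tmul, map_mul, ← mul_sub]
        refine Ideal.mul_mem_left _ _ ?_
        have h1 : algebraMap A' B' (algebraMap A A' (f b)) = algebraMap B B' (algebraMap A B (f b)) := by
          rw [← IsScalarTower.algebraMap_apply, ← IsScalarTower.algebraMap_apply]
        rw [h1, ← map_sub]
        refine Ideal.mem_map_of_mem _ ?_
        rw [RingHom.mem_ker, map_sub, hf, sub_self]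
    obtain ⟨a, ha⟩ := key x
    have h2 : (RingHom.ker f).map (algebraMap B B') ≤ RingHom.ker f' := by
      rw [Ideal.map_le_iff_le_comap]
      intro b hb
      rw [Ideal.mem_comap, RingHom.mem_ker, hc, (RingHom.mem_ker).1 hb, map_zero]
    have h3 : a = 0 := by
      have h4 := h2 ha
      rw [RingHom.mem_ker, map_sub, (RingHom.mem_ker).1 hx, hf', zero_sub, neg_eq_zero] at h4
      exact h4
    rw [h3, map_zero, sub_zero] at ha
    exact ha
  · rw [Ideal.map_le_iff_le_comap]
    intro b hb
    rw [Ideal.mem_comap, RingHom.mem_ker, hc, (RingHom.mem_ker).1 hb, map_zero]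

theorem ker_pow_eq_map [Algebra.IsPushout A A' B B'] (hf : ∀ a, f (algebraMap A B a) = a)
    (hf' : ∀ a, f' (algebraMap A' B' a) = a) (hc : ∀ b, f' (algebraMap B B' b) = algebraMap A A' (f b))
    (n : ℕ) : RingHom.ker f' ^ n = (RingHom.ker f ^ n).map (algebraMap B B') := by
  rw [ker_eq_map f f' hf hf' hc, Ideal.map_pow]

/-- Base change of the inclusion of `I ^ n`. -/
noncomputable abbrev incl (A' : Type u) [CommRing A'] [Algebra A A'] (n : ℕ) :
    A' ⊗[A] ((RingHom.ker f ^ n).restrictScalars A) →ₗ[A] A' ⊗[A] B :=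
  ((RingHom.ker f ^ n).restrictScalars A).subtype.lTensor A'

/-- The inclusion `I ^ (n + 1) → I ^ n`. -/
noncomputable def step (n : ℕ) :
    ((RingHom.ker f ^ (n + 1)).restrictScalars A) →ₗ[A] ((RingHom.ker f ^ n).restrictScalars A) :=
  Submodule.inclusion (fun _ h => Ideal.pow_le_pow_right (Nat.le_succ n) h)

theorem incl_step (A' : Type u) [CommRing A'] [Algebra A A'] (n : ℕ)
    (w : A' ⊗[A] ((RingHom.ker f ^ (n + 1)).restrictScalars A)) :
    incl f A' n ((step f n).lTensor A' w) = incl f A' (n + 1) w := by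
  rw [incl, incl, ← LinearMap.lTensor_comp_apply]
  rfl

section

variable {G : Type u} [AddCommGroup G] [Module A G] {f} {n : ℕ} {c : ↥(RingHom.ker f ^ n) →+ G}

/-- `c` as an `A`-linear map. -/
noncomputable def GrData.lin (h : GrData f n c) (hf : ∀ a, f (algebraMap A B a) = a) :
    ((RingHom.ker f ^ n).restrictScalars A) →ₗ[A] G where
  toFun := c
  map_add' := map_add c
  map_smul' a x := by
    have h1 := h.smul (algebraMap A B a) x
    rw [hf] at h1
    rw [RingHom.id_apply, ← h1]
    congr 1
    exact Subtype.ext (Algebra.smul_def a x.1)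

theorem GrData.lin_apply (h : GrData f n c) (hf : ∀ a, f (algebraMap A B a) = a) (x : ↥(RingHom.ker f ^ n)) :
    h.lin hf x = c x := rfl

/-- If `I ^ n / I ^ (n + 1)` is flat then `A' ⊗ I ^ (n + 1) → A' ⊗ I ^ n` is injective. -/
theorem GrData.step_injective (h : GrData f n c) (hf : ∀ a, f (algebraMap A B a) = a) [Module.Flat A G]
    (A' : Type u) [CommRing A'] [Algebra A A'] : Function.Injective ((step f n).lTensor A') := by
  refine LinearMap.lTensor_injective_of_exact_of_flat (h.lin hf) h.surj (step f n)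
    (Submodule.inclusion_injective _) ?_ A'
  intro x
  rw [GrData.lin_apply h hf x, h.ker x]
  constructor
  · intro hx
    exact ⟨⟨x.1, hx⟩, rfl⟩
  · rintro ⟨y, rfl⟩
    exact y.2

end

theorem incl_zero_injective (A' : Type u) [CommRing A'] [Algebra A A'] : Function.Injective (incl f A' 0) := by
  have h : (RingHom.ker f ^ 0).restrictScalars A = ⊤ := by
    rw [pow_zero, Ideal.one_eq_top]
    rfl
  have h1 : Function.Bijective ((RingHom.ker f ^ 0).restrictScalars A).subtype := by
    refine ⟨Subtype.val_injective, fun x => ⟨⟨x, ?_⟩, rfl⟩⟩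
    rw [h]
    trivial
  exact ((LinearEquiv.ofBijective _ h1).lTensor A').injective

theorem incl_succ_injective {A' : Type u} [CommRing A'] [Algebra A A'] {n : ℕ} (h : Function.Injective (incl f A' n))
    (h' : Function.Injective ((step f n).lTensor A')) : Function.Injective (incl f A' (n + 1)) := by
  intro x y hxy
  rw [← incl_step, ← incl_step] at hxy
  exact h' (h hxy)

/-- The graded pieces in degrees below `n` are flat. -/
theorem injective_of_flat (hf : ∀ a, f (algebraMap A B a) = a) (A' : Type u) [CommRing A'] [Algebra A A'] (n : ℕ)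
    (H : ∀ k < n, ∃ (G : Type u) (_ : AddCommGroup G) (_ : Module A G) (c : ↥(RingHom.ker f ^ k) →+ G),
      GrData f k c ∧ Module.Flat A G) : Function.Injective (incl f A' n) := by
  induction n with
  | zero => exact incl_zero_injective f A'
  | succ n ih =>
    obtain ⟨G, _, _, c, hc, hG⟩ := H n (Nat.lt_succ_self n)
    exact incl_succ_injective f (ih fun k hk => H k (hk.trans (Nat.lt_succ_self n))) (hc.step_injective hf A')

/-- In degree `0` the graded piece is `A`. -/
theorem grData_zero (hf : ∀ a, f (algebraMap A B a) = a) :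
    GrData f 0 ((f : B →+ A).comp (Submodule.subtype (RingHom.ker f ^ 0)).toAddMonoidHom) where
  surj a := ⟨⟨algebraMap A B a, by rw [pow_zero, Ideal.one_eq_top]; trivial⟩, hf a⟩
  ker x := by rw [zero_add, pow_one, RingHom.mem_ker]; rfl
  smul b x := map_mul f b x

variable {G P G' : Type u} [AddCommGroup G] [Module A G] [AddCommGroup P] [Module A P] [Module A' P]
  [IsScalarTower A A' P] [AddCommGroup G'] [Module A' G'] {n : ℕ}

theorem map_mem [Algebra.IsPushout A A' B B'] (hf : ∀ a, f (algebraMap A B a) = a)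
    (hf' : ∀ a, f' (algebraMap A' B' a) = a) (hc : ∀ b, f' (algebraMap B B' b) = algebraMap A A' (f b))
    (x : ↥(RingHom.ker f ^ n)) : algebraMap B B' x ∈ RingHom.ker f' ^ n := by
  rw [ker_pow_eq_map f f' hf hf' hc]
  exact Ideal.mem_map_of_mem _ x.2

theorem surjective_gr [Algebra.IsPushout A A' B B'] (hf : ∀ a, f (algebraMap A B a) = a)
    (hf' : ∀ a, f' (algebraMap A' B' a) = a) (hc : ∀ b, f' (algebraMap B B' b) = algebraMap A A' (f b))
    {c : ↥(RingHom.ker f ^ n) → G} {c' : ↥(RingHom.ker f' ^ n) →+ G'} (h' : GrData f' n c')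
    (s : G → P) (L : P →ₗ[A'] G') (hL : ∀ x, L (s (c x)) = c' ⟨algebraMap B B' x, map_mem f f' hf hf' hc x⟩) :
    Function.Surjective L := by
  have key : ∀ (y : B') (hy : y ∈ RingHom.ker f' ^ n), ∃ p, L p = c' ⟨y, hy⟩ := by
    intro y hy
    have hy' := hy
    rw [ker_pow_eq_map f f' hf hf' hc] at hy'
    have h1 : ∀ y ∈ (RingHom.ker f ^ n).map (algebraMap B B'), ∀ (hy : y ∈ RingHom.ker f' ^ n),
        ∃ p, L p = c' ⟨y, hy⟩ := by
      intro y hy
      refine Submodule.span_induction ?_ ?_ ?_ ?_ hy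
      · rintro _ ⟨b, hb, rfl⟩ h
        exact ⟨s (c ⟨b, hb⟩), hL _⟩
      · intro h
        refine ⟨0, ?_⟩
        rw [map_zero]
        exact (map_zero c').symm
      · rintro x y hx hy ih ih' h
        have hx' : x ∈ RingHom.ker f' ^ n := by rw [ker_pow_eq_map f f' hf hf' hc]; exact hx
        have hy' : y ∈ RingHom.ker f' ^ n := by rw [ker_pow_eq_map f f' hf hf' hc]; exact hy
        obtain ⟨p, hp⟩ := ih hx'
        obtain ⟨q, hq⟩ := ih' hy'
        refine ⟨p + q, ?_⟩
        rw [map_add, hp, hq]
        exact (map_add c' ⟨x, hx'⟩ ⟨y, hy'⟩).symm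
      · rintro r x hx ih h
        have hx' : x ∈ RingHom.ker f' ^ n := by rw [ker_pow_eq_map f f' hf hf' hc]; exact hx
        obtain ⟨p, hp⟩ := ih hx'
        refine ⟨f' r • p, ?_⟩
        rw [map_smul, hp]
        exact (h'.smul r ⟨x, hx'⟩).symm
    exact h1 y hy' hy
  intro g
  obtain ⟨⟨y, hy⟩, rfl⟩ := h'.surj g
  exact key y hy

/-- The comparison map of graded pieces is bijective when `A' ⊗ I ^ n → A' ⊗ B` is injective. -/
theorem bijective_gr [Algebra.IsPushout A A' B B'] (hf : ∀ a, f (algebraMap A B a) = a)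
    (hf' : ∀ a, f' (algebraMap A' B' a) = a) (hc : ∀ b, f' (algebraMap B B' b) = algebraMap A A' (f b))
    {c : ↥(RingHom.ker f ^ n) →+ G} (h : GrData f n c) {c' : ↥(RingHom.ker f' ^ n) →+ G'} (h' : GrData f' n c')
    (s : G →ₗ[A] P) (hs : IsBaseChange A' s) (L : P →ₗ[A'] G')
    (hL : ∀ x, L (s (c x)) = c' ⟨algebraMap B B' x, map_mem f f' hf hf' hc x⟩)
    (hinj : Function.Injective (incl f A' n)) : Function.Bijective L := by
  refine ⟨?_, surjective_gr f f' hf hf' hc h' s L hL⟩
  rw [injective_iff_map_eq_zero]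
  intro p hp
  obtain ⟨q, rfl⟩ := hs.equiv.surjective p
  obtain ⟨t, rfl⟩ := LinearMap.lTensor_surjective A' (g := h.lin hf) h.surj q
  -- the element of `I' ^ n` attached to `t`
  have key : ∀ t : A' ⊗[A] ((RingHom.ker f ^ n).restrictScalars A), ∃ hmem : β (B' := B') (incl f A' n t) ∈
      RingHom.ker f' ^ n, L (hs.equiv ((h.lin hf).lTensor A' t)) = c' ⟨_, hmem⟩ := by
    intro t
    induction t using TensorProduct.induction_on with
    | zero =>
      refine ⟨by rw [map_zero, map_zero]; exact zero_mem _, ?_⟩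
      rw [map_zero, map_zero, map_zero]
      refine (map_zero c').symm.trans (congrArg c' (Subtype.ext ?_))
      change 0 = β (B' := B') (incl f A' n 0)
      rw [map_zero, map_zero]
    | add t t' ht ht' =>
      obtain ⟨hm, e⟩ := ht
      obtain ⟨hm', e'⟩ := ht'
      refine ⟨by rw [map_add, map_add]; exact add_mem hm hm', ?_⟩
      rw [map_add, map_add, map_add, e, e', ← map_add]
      refine congrArg c' (Subtype.ext ?_)
      change _ + _ = β (B' := B') (incl f A' n (t + t'))
      rw [map_add, map_add]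
    | tmul a x =>
      have e0 : β (B' := B') (incl f A' n (a ⊗ₜ[A] x)) = algebraMap A' B' a • algebraMap B B' x.1 := rfl
      refine ⟨by rw [e0]; exact Ideal.mul_mem_left _ _ (map_mem f f' hf hf' hc x), ?_⟩
      rw [LinearMap.lTensor_tmul, IsBaseChange.equiv_tmul, map_smul]
      have e1 : L (s (h.lin hf x)) = _ := hL x
      rw [e1]
      have e2 := h'.smul (algebraMap A' B' a) ⟨algebraMap B B' x, map_mem f f' hf hf' hc x⟩
      rw [hf'] at e2
      exact e2.symm
  obtain ⟨hmem, e⟩ := key t
  rw [e, h'.ker] at hp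
  change β (B' := B') (incl f A' n t) ∈ _ at hp
  rw [ker_pow_eq_map f f' hf hf' hc] at hp
  obtain ⟨w, hw⟩ := exists_sum (A := A) (A' := A') (RingHom.ker f ^ (n + 1)) hp
  have h2 : t = (step f n).lTensor A' w := by
    apply hinj
    rw [incl_step]
    exact (β_bijective (A := A) (B := B) (A' := A') (B' := B')).1 hw.symm
  have h3 : (h.lin hf).lTensor A' t = 0 := by
    rw [h2, ← LinearMap.lTensor_comp_apply]
    have h4 : (h.lin hf).comp (step f n) = 0 := by
      ext x
      exact (h.ker _).2 x.2
    rw [h4]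
    simp
  rw [h3, map_zero]

end K137.GrAlg
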