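import Groth.Agent.Nrm16.K137.GrSec
import Groth.Agent.CohqA.PullbackQCoh
import Groth.Agent.Sga67.Sec
import Groth.Agent.FlatMod.K582.FlatSections

/-!
# Graded pieces of a section of a morphism, and base change

* `isPullback_of_section`: the base change of a section is a base change;
* `exists_chart`: affine opens `V` with `V ≤ g ⁻¹ (f ⁻¹ V)`;
* `isIso_of_injective`, `isIso_gr`: the canonical map `u^* Gr_n(f) ⟶ Gr_n(f')` is an isomorphism if the graded pieces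
  in degrees below `n` are flat (the condition is empty in degree zero).
-/

set_option autoImplicit false
universe u

open CategoryTheory CategoryTheory.Limits AlgebraicGeometry TopologicalSpace Opposite PrinPart OmegaSh

namespace K137.GrRetr

open Groth.Agent Groth.Agent.VarietyB K137.Ideal K137.GrAlg K137.GrSec

variable {X Y X' Y' : Scheme.{u}} {g : X ⟶ Y} {f : Y ⟶ X} {u : Y' ⟶ Y} {v : X' ⟶ X} {g' : X' ⟶ Y'} {f' : Y' ⟶ X'}

theorem appLE_id {Z : Scheme.{u}} (U : Z.Opens) (e : U ≤ (𝟙 Z : Z ⟶ Z) ⁻¹ᵁ U) (a : Γ(Z, U)) :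
    (𝟙 Z : Z ⟶ Z).appLE U U e a = a := by
  have h1 : Z.presheaf.map (𝟙 (op U)) a = a := by
    rw [CategoryTheory.Functor.map_id]
    rfl
  have h2 : (𝟙 Z : Z ⟶ Z).app U a = a := by
    rw [Scheme.Hom.id_app]
    rfl
  exact (congrArg (fun b => Z.presheaf.map (𝟙 (op U)) b) h2).trans h1

theorem isPullback_of_section (hf : f ≫ g = 𝟙 Y) (hsq : IsPullback v g' g u) (hf' : f' ≫ g' = 𝟙 Y')
    (hf'v : f' ≫ v = u ≫ f) : IsPullback f' u v f := by
  have h1 : IsPullback (f' ≫ g') u u (f ≫ g) := by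
    rw [hf, hf']
    exact IsPullback.of_horiz_isIso ⟨by simp⟩
  have h2 : IsPullback g' v u g := hsq.flip
  exact IsPullback.of_right h1 hf'v h2

/-- Affine opens `V ∋ f y` with `g V ⊆ f ⁻¹ V`. -/
theorem exists_chart [IsClosedImmersion f] (hf : f ≫ g = 𝟙 Y) (y : Y) :
    ∃ V : X.Opens, IsAffineOpen V ∧ y ∈ f ⁻¹ᵁ V ∧ V ≤ g ⁻¹ᵁ (f ⁻¹ᵁ V) := by
  obtain ⟨_, ⟨U, hU, rfl⟩, hyU, -⟩ :=
    Y.isBasis_affineOpens.exists_subset_of_mem_open (Set.mem_univ y) isOpen_univ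
  have hgf : g (f y) = y := by
    rw [← Scheme.Hom.comp_apply, hf]
    rfl
  have hgf' : ∀ W : Y.Opens, f ⁻¹ᵁ (g ⁻¹ᵁ W) = W := fun W => by
    rw [← Scheme.Hom.comp_preimage, hf]
    rfl
  obtain ⟨_, ⟨V, hV, rfl⟩, hyV, hVU⟩ :=
    X.isBasis_affineOpens.exists_subset_of_mem_open (a := f y) (u := (g ⁻¹ᵁ U : X.Opens))
      (show g (f y) ∈ U by rw [hgf]; exact hyU) (g ⁻¹ᵁ U).isOpen
  obtain ⟨a, ha, hya⟩ := hU.exists_basicOpen_le (V := f ⁻¹ᵁ V) ⟨y, hyV⟩ hyU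
  have hVU' : V ≤ g ⁻¹ᵁ U := hVU
  have h1 : X.basicOpen (g.appLE U V hVU' a) = V ⊓ g ⁻¹ᵁ (Y.basicOpen a) := by
    rw [Scheme.Hom.appLE, CommRingCat.comp_apply, Scheme.basicOpen_res, Scheme.preimage_basicOpen]
  refine ⟨V ⊓ g ⁻¹ᵁ (Y.basicOpen a), ?_, ?_, ?_⟩
  · rw [← h1]
    exact hV.basicOpen _
  · refine ⟨hyV, ?_⟩
    change g (f y) ∈ Y.basicOpen a
    rw [hgf]
    exact hya
  · rw [Scheme.Hom.preimage_inf, hgf']
    intro x hx
    exact ⟨ha hx.2, hx.2⟩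

section Chart

variable [IsClosedImmersion f] (hf : f ≫ g = 𝟙 Y) (hsq : IsPullback v g' g u) (hf' : f' ≫ g' = 𝟙 Y')
    (hf'v : f' ≫ v = u ≫ f) (n : ℕ) {φ : (Scheme.Modules.pullback u).obj (grMod f n) ⟶ grMod f' n}
    (hφ : IsGrMap f' f v u n φ)

include hf hsq hf' hf'v hφ in
theorem bijective_app {V : X.Opens} (hV : IsAffineOpen V) (hVg : V ≤ g ⁻¹ᵁ (f ⁻¹ᵁ V)) {W : Y'.Opens}
    (hW : IsAffineOpen W) (eW : W ≤ u ⁻¹ᵁ (f ⁻¹ᵁ V))
    (H : ∀ k < n, k = 0 ∨ ∀ y ∈ f ⁻¹ᵁ V, FlatMod.IsFlatAt (grMod f k) y) : Function.Bijective (φ.app W) := by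
  have hcl : IsClosedImmersion f' :=
    MorphismProperty.of_isPullback (isPullback_of_section hf hsq hf' hf'v).flip inferInstance
  obtain ⟨U, h⟩ : ∃ U, U = f ⁻¹ᵁ V := ⟨_, rfl⟩
  have hU : IsAffineOpen U := by rw [h]; exact hV.preimage f
  have eg : V ≤ g ⁻¹ᵁ U := by rw [h]; exact hVg
  have eu : W ≤ u ⁻¹ᵁ U := by rw [h]; exact eW
  let V' := v ⁻¹ᵁ V ⊓ g' ⁻¹ᵁ W
  have ev : V' ≤ v ⁻¹ᵁ V := inf_le_left
  have eg' : V' ≤ g' ⁻¹ᵁ W := inf_le_right
  have hV' : IsAffineOpen V' := by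
    have : IsAffine _ := hV
    have : IsAffine _ := hU
    have : IsAffine _ := hW
    exact .of_isIso (Scheme.Hom.isPullback_resLE hsq eu eg (UY := v ⁻¹ᵁ V ⊓ g' ⁻¹ᵁ W) rfl).isoPullback.hom
  have h' : W = f' ⁻¹ᵁ V' := by
    change W = f' ⁻¹ᵁ (v ⁻¹ᵁ V ⊓ g' ⁻¹ᵁ W)
    rw [Scheme.Hom.preimage_inf, ← Scheme.Hom.comp_preimage, ← Scheme.Hom.comp_preimage, hf', hf'v,
      Scheme.Hom.comp_preimage]
    exact (inf_eq_right.2 eW).symm
  have HP : IsPushout (g.appLE U V eg) (u.appLE U W eu) (v.appLE V V' ev) (g'.appLE W V' eg') :=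
    (isIso_pushoutSection_iff hsq (US := U) (UT := W) (UX := V) eu eg
        (UY := V') rfl).mp (isIso_pushoutSection_of_isAffineOpen _ eu eg rfl hU hW hV)
  have eAB' : V' ≤ (v ≫ g) ⁻¹ᵁ U := ev.trans (v.preimage_mono eg)
  let iAB : Algebra Γ(Y, U) Γ(X, V) := (g.appLE U V eg).hom.toAlgebra
  let iAA' : Algebra Γ(Y, U) Γ(Y', W) := (u.appLE U W eu).hom.toAlgebra
  let iBB' : Algebra Γ(X, V) Γ(X', V') := (v.appLE V V' ev).hom.toAlgebra
  let iA'B' : Algebra Γ(Y', W) Γ(X', V') := (g'.appLE W V' eg').hom.toAlgebra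
  let iAB' : Algebra Γ(Y, U) Γ(X', V') := ((v ≫ g).appLE U V' eAB').hom.toAlgebra
  have t1 : IsScalarTower Γ(Y, U) Γ(X, V) Γ(X', V') := .of_algebraMap_eq fun a =>
    congr($(Scheme.Hom.appLE_comp_appLE v g U V V' eg ev) a).symm
  have t2 : IsScalarTower Γ(Y, U) Γ(Y', W) Γ(X', V') := .of_algebraMap_eq fun a => by
    have e1 : (v.appLE V V' ev) (g.appLE U V eg a) = (v ≫ g).appLE U V' eAB' a :=
      congr($(Scheme.Hom.appLE_comp_appLE v g U V V' eg ev) a)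
    have e2 : (v.appLE V V' ev) (g.appLE U V eg a) = g'.appLE W V' eg' (u.appLE U W eu a) := congr($(HP.w) a)
    exact e1.symm.trans e2
  have t3 : Algebra.IsPushout Γ(Y, U) Γ(Y', W) Γ(X, V) Γ(X', V') := CommRingCat.isPushout_iff_isPushout.1 HP.flip
  have hfA : ∀ a, (f.appLE V U h.le).hom (algebraMap Γ(Y, U) Γ(X, V) a) = a := by
    intro a
    have e1 := congr($(Scheme.Hom.appLE_comp_appLE f g U V U eg h.le) a)
    refine e1.trans ?_
    have e2 : ∀ (k : Y ⟶ Y) (_ : k = 𝟙 Y) (e : U ≤ k ⁻¹ᵁ U), k.appLE U U e a = a := by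
      rintro k rfl e
      exact appLE_id U e a
    exact e2 _ hf _
  have hfA' : ∀ a, (f'.appLE V' W h'.le).hom (algebraMap Γ(Y', W) Γ(X', V') a) = a := by
    intro a
    have e1 := congr($(Scheme.Hom.appLE_comp_appLE f' g' W V' W eg' h'.le) a)
    refine e1.trans ?_
    have e2 : ∀ (k : Y' ⟶ Y') (_ : k = 𝟙 Y') (e : W ≤ k ⁻¹ᵁ W), k.appLE W W e a = a := by
      rintro k rfl e
      exact appLE_id W e a
    exact e2 _ hf' _
  have hc : ∀ b, (f'.appLE V' W h'.le).hom (algebraMap Γ(X, V) Γ(X', V') b) =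
      algebraMap Γ(Y, U) Γ(Y', W) ((f.appLE V U h.le).hom b) := by
    intro b
    have e1 := congr($(Scheme.Hom.appLE_comp_appLE f' v V V' W ev h'.le) b)
    have e2 := congr($(Scheme.Hom.appLE_comp_appLE u f V U W h.le eu) b)
    refine e1.trans (Eq.trans ?_ e2.symm)
    have e3 : ∀ (k l : Y' ⟶ X) (_ : k = l) (e : W ≤ k ⁻¹ᵁ V) (e' : W ≤ l ⁻¹ᵁ V), k.appLE V W e b = l.appLE V W e' b := by
      rintro k _ rfl e e'
      rfl
    exact e3 _ _ hf'v _ _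
  obtain ⟨c, hcG, hct⟩ := exists_c f n hV h
  obtain ⟨c', hcG', hct'⟩ := exists_c f' n hV' h'
  let j2 := PullSec.secModule u (grMod f n) eu
  have j3 : IsScalarTower Γ(Y, U) Γ(Y', W) Γ((Scheme.Modules.pullback u).obj (grMod f n), W) :=
      ⟨fun a b c => by rw [Algebra.smul_def, mul_smul]; rfl⟩
  have hbc := PullSec.isBaseChange_secₗ u (grMod f n) eu (isQCoh_grMod f n) hU hW
  refine bijective_gr (f.appLE V U h.le).hom (f'.appLE V' W h'.le).hom hfA hfA' hc hcG hcG'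
    (PullSec.secₗ u (grMod f n) eu) hbc (Sga67.Sec.appS φ W) ?_ ?_
  · intro x
    obtain ⟨t, ht⟩ := exists_idealSect_eq (f.ker ^ n) ⟨V, hV⟩ (a := x.1) (by rw [ideal_eq f n hV h]; exact x.2)
    obtain ⟨t', ht'⟩ := exists_idealSect_eq (f'.ker ^ n) ⟨V', hV'⟩ (a := algebraMap Γ(X, V) Γ(X', V') x.1)
      (by rw [ideal_eq f' n hV' h']; exact map_mem _ _ hfA hfA' hc x)
    rw [hct x t ht, hct' _ t' ht']
    exact app_sec hφ h ev h' eu t t' (by rw [ht, ht']; rfl)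
  · refine injective_of_flat (f.appLE V U h.le).hom hfA Γ(Y', W) n fun k hk => ?_
    rcases H k hk with rfl | hfl
    · exact ⟨Γ(Y, U), inferInstance, inferInstance, _, grData_zero _ hfA, inferInstance⟩
    · obtain ⟨ck, hck, -⟩ := exists_c f k hV h
      exact ⟨Γ(grMod f k, U), inferInstance, inferInstance, ck, hck,
        K582.FlatSections.flat_sections_of_isFlatAt _ (isQCoh_grMod f k) hU (fun y hy => hfl y (h ▸ hy))⟩

include hf hsq hf' hf'v hφ in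
/-- The canonical map of graded pieces is an isomorphism for a section, if the graded pieces in degrees below `n`
are flat. -/
theorem isIso_gr (H : ∀ k < n, k = 0 ∨ FlatMod.IsFlat (grMod f k)) : IsIso φ := by
  choose V hV hy hVg using exists_chart (f := f) (g := g) hf
  have h1 : ∀ y : Y', ∃ W : Y'.Opens, IsAffineOpen W ∧ y ∈ W ∧ W ≤ u ⁻¹ᵁ (f ⁻¹ᵁ V (u y)) := fun y => by
    obtain ⟨_, ⟨W, hW, rfl⟩, hyW, hWV⟩ :=
      Y'.isBasis_affineOpens.exists_subset_of_mem_open (a := y) (u := (u ⁻¹ᵁ (f ⁻¹ᵁ V (u y)) : Y'.Opens))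
        (hy (u y)) (u ⁻¹ᵁ (f ⁻¹ᵁ V (u y))).isOpen
    exact ⟨W, hW, hyW, hWV⟩
  choose W hW hyW hWV using h1
  have hq : ((Scheme.Modules.pullback u).obj (grMod f n)).IsQuasicoherent :=
    PullSec.isQCoh_pullback u _ (isQCoh_grMod f n)
  have hq' : (grMod f' n).IsQuasicoherent := isQCoh_grMod f' n
  refine CohqA.PullbackQCoh.isIso_of_bijective_affineCover φ W ?_ hW fun y =>
    bijective_app hf hsq hf' hf'v n hφ (hV (u y)) (hVg (u y)) (hW y) (hWV y)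
      (fun k hk => (H k hk).imp id fun h y _ => h y)
  exact top_le_iff.1 fun y _ => Opens.mem_iSup.2 ⟨y, hyW y⟩

end Chart

end K137.GrRetr
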