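import Groth.Prelude.Def_OmegaPn
import Groth.Agent.Nrm16.K137.Imm
import Groth.Agent.Divis.IdealComap

/-!
# Infinitesimal neighbourhoods: functoriality, universal property, affine charts

* `exists_lift`: a morphism `T ⟶ X` from an `n`-th order thickening `t : Y' ⟶ T` (`t.ker ^ (n + 1) = ⊥`) of a
  scheme over `i : Y ⟶ X` factors through `infNbhd i n`; `ker_toInfNbhd_pow`, `ker_toInfNbhd`;
* `exists_map`: functoriality of `infNbhd` for commutative squares;
* `Scheme.Hom.coborderRange`: `le_coborderRange`;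
* `imm i n : infNbhd i.liftCoborder n ⟶ X` for an immersion `i` and its charts: `isAffineOpen_imm`,
  `imm_app_surjective`, `ker_imm_app`.
-/

set_option autoImplicit false
universe u

open CategoryTheory CategoryTheory.Limits AlgebraicGeometry TopologicalSpace Opposite PrinPart

namespace K137.InfNbhd

open Groth.Agent.Divis

variable {X Y X' Y' T : Scheme.{u}}

instance isClosedImmersion_infNbhdι (i : Y ⟶ X) (n : ℕ) : IsClosedImmersion (infNbhdι i n) :=
  inferInstanceAs (IsClosedImmersion (i.ker ^ (n + 1)).subschemeι)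

theorem ker_infNbhdι (i : Y ⟶ X) (n : ℕ) : (infNbhdι i n).ker = i.ker ^ (n + 1) :=
  Scheme.IdealSheafData.ker_subschemeι _

theorem exists_lift_subscheme (J : X.IdealSheafData) (a : T ⟶ X) (h : J ≤ a.ker) :
    ∃ l : T ⟶ J.subscheme, l ≫ J.subschemeι = a := by
  have h4 : J.subschemeι.ker ≤ a.ker := by rwa [Scheme.IdealSheafData.ker_subschemeι]
  exact ⟨IsClosedImmersion.lift J.subschemeι a h4, IsClosedImmersion.lift_fac J.subschemeι a h4⟩

/-- The universal property of the infinitesimal neighbourhoods. -/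
theorem exists_lift (i : Y ⟶ X) (n : ℕ) (t : Y' ⟶ T) (ht : t.ker ^ (n + 1) = ⊥) (a : T ⟶ X) (u : Y' ⟶ Y)
    (w : t ≫ a = u ≫ i) : ∃ l : T ⟶ infNbhd i n, l ≫ infNbhdι i n = a := by
  have h1 : i.ker.comap a ≤ t.ker := by
    rw [← Scheme.IdealSheafData.le_map_iff_comap_le, Scheme.IdealSheafData.map_ker, w]
    exact Scheme.Hom.le_ker_comp u i
  have h2 : (i.ker ^ (n + 1)).comap a ≤ ⊥ := by
    rw [IdealComap.comap_pow, ← ht]
    exact pow_le_pow_left' h1 (n + 1)
  have h3 : i.ker ^ (n + 1) ≤ Scheme.IdealSheafData.map ⊥ a := Scheme.IdealSheafData.le_map_iff_comap_le.mpr h2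
  rw [Scheme.IdealSheafData.map_bot] at h3
  exact exists_lift_subscheme _ a h3

/-- The ideal of `Y` in its infinitesimal neighbourhood. -/
theorem ker_toInfNbhd (i : Y ⟶ X) [IsClosedImmersion i] (n : ℕ) :
    (toInfNbhd i n).ker = i.ker.comap (infNbhdι i n) := by
  have H : IsPullback (toInfNbhd i n) (𝟙 Y) (infNbhdι i n) i := by
    refine IsPullback.of_isLimit' ⟨by simp⟩ ?_
    refine PullbackCone.IsLimit.mk _ (fun s => s.snd) (fun s => ?_) (fun s => by simp) (fun s m _ h => by simpa using h)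
    rw [← cancel_mono (infNbhdι i n), Category.assoc, toInfNbhd_ι, s.condition]
  have e := H.isoPullback_hom_fst
  have h1 := Scheme.IdealSheafData.ker_fst_of_isClosedImmersion i (infNbhdι i n)
  rw [← h1, ← e, Scheme.Hom.ker_comp_of_isIso]

theorem comap_ker (i : Y ⟶ X) [QuasiCompact i] : i.ker.comap i = ⊥ := by
  apply le_bot_iff.mp
  rw [← Scheme.IdealSheafData.le_map_iff_comap_le, Scheme.IdealSheafData.map_bot]

theorem ker_toInfNbhd_pow (i : Y ⟶ X) [IsClosedImmersion i] (n : ℕ) : (toInfNbhd i n).ker ^ (n + 1) = ⊥ := by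
  rw [ker_toInfNbhd, ← IdealComap.comap_pow, ← ker_infNbhdι, comap_ker]

/-- Functoriality of infinitesimal neighbourhoods. -/
theorem exists_map (i : Y ⟶ X) (i' : Y' ⟶ X') (v : X' ⟶ X) (u : Y' ⟶ Y) (w : u ≫ i = i' ≫ v) (n : ℕ) :
    ∃ l : infNbhd i' n ⟶ infNbhd i n, l ≫ infNbhdι i n = infNbhdι i' n ≫ v := by
  have h1 : i.ker.comap v ≤ i'.ker := by
    rw [← Scheme.IdealSheafData.le_map_iff_comap_le, Scheme.IdealSheafData.map_ker, ← w]
    exact Scheme.Hom.le_ker_comp u i
  have h2 : i.ker ^ (n + 1) ≤ (i'.ker ^ (n + 1)).map v := by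
    rw [Scheme.IdealSheafData.le_map_iff_comap_le, IdealComap.comap_pow]
    exact pow_le_pow_left' h1 (n + 1)
  exact ⟨Scheme.IdealSheafData.subschemeMap _ _ v h2, Scheme.IdealSheafData.subschemeMap_subschemeι _ _ v h2⟩

section Coborder

variable (i : Y ⟶ X) [IsImmersion i]

theorem le_coborderRange (W : X.Opens) [IsClosedImmersion (i ∣_ W)] : W ≤ i.coborderRange := by
  have h1 : IsClosed (Set.range (i ∣_ W)) := (i ∣_ W).isClosedEmbedding.isClosed_range
  have h2 : Set.range (i ∣_ W) = W.ι ⁻¹' Set.range i := by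
    rw [morphismRestrict_base]
    exact Set.range_restrictPreimage _ _
  rw [h2] at h1
  have h3 := (W.ι.isOpenEmbedding.coborder_preimage (Set.range i)).symm.trans (coborder_eq_univ_iff.mpr h1)
  intro x hx
  have : (⟨x, hx⟩ : W) ∈ W.ι ⁻¹' coborder (Set.range i) := by rw [h3]; trivial
  exact this

/-- A criterion for being in the coborder: an affine open with affine preimage and surjective comorphism. -/
theorem le_coborderRange_of_surjective {W : X.Opens} (hW : IsAffineOpen W) (hW' : IsAffineOpen (i ⁻¹ᵁ W))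
    (h : Function.Surjective (i.app W)) : W ≤ i.coborderRange := by
  have : IsAffine W := hW
  have : IsAffine (i ⁻¹ᵁ W).toScheme := hW'
  have : IsClosedImmersion (i ∣_ W) := by
    apply IsClosedImmersion.of_surjective_of_isAffine
    have h1 : Function.Surjective (i.app (W.ι ''ᵁ ⊤)) := by
      rw [Scheme.Opens.ι_image_top]
      exact h
    have h2 : Function.Surjective (Y.presheaf.map (eqToHom (image_morphismRestrict_preimage i W ⊤)).op) :=
      (ConcreteCategory.bijective_of_isIso _).2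
    rw [morphismRestrict_appTop]
    intro b
    obtain ⟨b', rfl⟩ := h2 b
    obtain ⟨a, rfl⟩ := h1 b'
    exact ⟨a, rfl⟩
  exact le_coborderRange i W

/-- The infinitesimal neighbourhood of an immersion. -/
noncomputable abbrev imm (n : ℕ) : infNbhd i.liftCoborder n ⟶ X :=
  infNbhdι i.liftCoborder n ≫ i.coborderRange.ι

variable {i} in
theorem isAffineOpen_imm (n : ℕ) (c : Imm.Ch i) : IsAffineOpen (imm i n ⁻¹ᵁ c.V) := by
  have h1 : IsAffineOpen (i.coborderRange.ι ⁻¹ᵁ c.V) := by
    apply c.hV.preimage_of_isOpenImmersion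
    rw [Scheme.Opens.opensRange_ι]
    exact c.le
  exact h1.preimage (infNbhdι i.liftCoborder n)

variable {i} in
theorem bijective_ι_app (c : Imm.Ch i) : Function.Bijective (i.coborderRange.ι.app c.V) := by
  have : IsIso (i.coborderRange.ι.app c.V) := by
    apply Scheme.Hom.isIso_app
    rw [Scheme.Opens.opensRange_ι]
    exact c.le
  exact ConcreteCategory.bijective_of_isIso _

variable {i} in
theorem imm_app_surjective (n : ℕ) (c : Imm.Ch i) : Function.Surjective ((imm i n).app c.V) := by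
  have h1 : IsAffineOpen (i.coborderRange.ι ⁻¹ᵁ c.V) := by
    apply c.hV.preimage_of_isOpenImmersion
    rw [Scheme.Opens.opensRange_ι]
    exact c.le
  have h2 := (infNbhdι i.liftCoborder n).app_surjective _ h1
  rw [imm, Scheme.Hom.comp_app]
  exact h2.comp (bijective_ι_app c).2

variable {i} in
theorem ker_imm_app (n : ℕ) (c : Imm.Ch i) :
    RingHom.ker ((imm i n).app c.V).hom = RingHom.ker (i.app c.V).hom ^ (n + 1) := by
  have h1 : IsAffineOpen (i.coborderRange.ι ⁻¹ᵁ c.V) := by
    apply c.hV.preimage_of_isOpenImmersion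
    rw [Scheme.Opens.opensRange_ι]
    exact c.le
  have h2 := Scheme.Hom.ker_apply (infNbhdι i.liftCoborder n) ⟨_, h1⟩
  have h3 := Scheme.Hom.ker_apply i.liftCoborder ⟨_, h1⟩
  rw [ker_infNbhdι, Scheme.IdealSheafData.ideal_pow, Pi.pow_apply, h3] at h2
  have hb := bijective_ι_app c
  let e : Γ(X, c.V) ≃+* Γ(i.coborderRange, i.coborderRange.ι ⁻¹ᵁ c.V) :=
    RingEquiv.ofBijective (i.coborderRange.ι.app c.V).hom hb
  have h4 : RingHom.ker ((imm i n).app c.V).hom =
      (RingHom.ker ((infNbhdι i.liftCoborder n).app (i.coborderRange.ι ⁻¹ᵁ c.V)).hom).comap e := by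
    ext x
    rw [Ideal.mem_comap, RingHom.mem_ker, RingHom.mem_ker, imm, Scheme.Hom.comp_app]
    rfl
  have h5 : RingHom.ker (i.app c.V).hom =
      (RingHom.ker (i.liftCoborder.app (i.coborderRange.ι ⁻¹ᵁ c.V)).hom).comap e := by
    ext x
    rw [Ideal.mem_comap, RingHom.mem_ker, RingHom.mem_ker]
    have h6 := Scheme.Hom.congr_app i.liftCoborder_ι c.V
    rw [Scheme.Hom.comp_app] at h6
    have h7 : i.liftCoborder.app (i.coborderRange.ι ⁻¹ᵁ c.V) (i.coborderRange.ι.app c.V x) =
        Y.presheaf.map (eqToHom (show (i.liftCoborder ≫ i.coborderRange.ι) ⁻¹ᵁ c.V = i ⁻¹ᵁ c.V by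
          rw [i.liftCoborder_ι])).op (i.app c.V x) := congr(($h6) x)
    have h8 : Function.Injective (Y.presheaf.map (eqToHom
        (show (i.liftCoborder ≫ i.coborderRange.ι) ⁻¹ᵁ c.V = i ⁻¹ᵁ c.V by rw [i.liftCoborder_ι])).op) :=
      (ConcreteCategory.bijective_of_isIso _).1
    change i.app c.V x = 0 ↔ i.liftCoborder.app (i.coborderRange.ι ⁻¹ᵁ c.V) (i.coborderRange.ι.app c.V x) = 0
    rw [h7]
    exact (map_eq_zero_iff _ h8).symm
  rw [h4, h5, ← h2]
  have h9 := Ideal.map_symm (I := RingHom.ker (i.liftCoborder.app (i.coborderRange.ι ⁻¹ᵁ c.V)).hom) e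
  have h10 := Ideal.map_symm (I := RingHom.ker (i.liftCoborder.app (i.coborderRange.ι ⁻¹ᵁ c.V)).hom ^ (n + 1)) e
  rw [← h9, ← Ideal.map_pow]
  exact h10.symm

end Coborder

end K137.InfNbhd
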