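import Groth.Agent.Nrm16.K137.GrAlg
import Groth.Agent.Nrm16.K137.Ideal
import Groth.Agent.Nrm16.K137.InfNbhd
import Groth.Agent.VarietyB.PullSec
import Groth.Agent.OmegaSh.K584.UnivRing

/-!
# Sections of the graded pieces `I ^ n / I ^ (n + 1)` over affine opens

* `isQCoh_grMod`;
* `exists_c`: over an affine open `V` of the target and `U = f ⁻¹ V`, the sections of `grMod f n` over `U` are the
  quotient `I ^ n / I ^ (n + 1)`, `I = ker (Γ(X, V) → Γ(Y, U))`;
* `exists_pull`: pull back of sections of `I ^ n`;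
* `app_sec`: the value of the canonical map (`IsGrMap`) on classes.
-/

set_option autoImplicit false
universe u

open CategoryTheory CategoryTheory.Limits AlgebraicGeometry TopologicalSpace Opposite PrinPart OmegaSh

namespace K137.GrSec

open Groth.Agent Groth.Agent.VarietyB K137.Ideal K137.GrAlg

variable {X Y X' Y' : Scheme.{u}}

theorem isQCoh_grMod (f : Y ⟶ X) (n : ℕ) : Coh.IsQCoh (grMod f n) :=
  PullSec.isQCoh_pullback f _ (PerfA.IdealModule.isQCoh_idealMod (f.ker ^ n))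

section Chart

variable (f : Y ⟶ X) [IsClosedImmersion f] (n : ℕ) {V : X.Opens} (hV : IsAffineOpen V) {U : Y.Opens}
  (h : U = f ⁻¹ᵁ V)

include hV h in
theorem appLE_surjective : Function.Surjective (f.appLE V U h.le) := by
  subst h
  rw [Scheme.Hom.appLE_eq_app]
  exact f.app_surjective V hV

theorem ideal_eq : (f.ker ^ n).ideal ⟨V, hV⟩ = RingHom.ker (f.appLE V U h.le).hom ^ n := by
  subst h
  have h1 : (f.ker ^ n).ideal ⟨V, hV⟩ = (f.ker.ideal ⟨V, hV⟩) ^ n := rfl
  rw [h1, Scheme.Hom.ker_apply, Scheme.Hom.appLE_eq_app]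

include hV in
theorem exists_c : ∃ c : ↥(RingHom.ker (f.appLE V U h.le).hom ^ n) →+ Γ(grMod f n, U),
    GrData (f.appLE V U h.le).hom n c ∧
    ∀ (x : ↥(RingHom.ker (f.appLE V U h.le).hom ^ n)) (t : Γ(ClSub.idealMod (f.ker ^ n), V)),
      idealSect (f.ker ^ n) V t = x.1 → c x = PullSec.sec f (ClSub.idealMod (f.ker ^ n)) h.le t := by
  have hU : IsAffineOpen U := by
    rw [h]
    exact hV.preimage f
  let j1 : Algebra Γ(X, V) Γ(Y, U) := (f.appLE V U h.le).hom.toAlgebra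
  let j2 := PullSec.secModule f (ClSub.idealMod (f.ker ^ n)) h.le
  have j3 : IsScalarTower Γ(X, V) Γ(Y, U) Γ((Scheme.Modules.pullback f).obj (ClSub.idealMod (f.ker ^ n)), U) :=
      ⟨fun a b c => by rw [Algebra.smul_def, mul_smul]; rfl⟩
  have hbc := PullSec.isBaseChange_secₗ f (ClSub.idealMod (f.ker ^ n)) h.le
    (PerfA.IdealModule.isQCoh_idealMod (f.ker ^ n)) hV hU
  let J := RingHom.ker (f.appLE V U h.le).hom ^ n
  have hJ : (f.ker ^ n).ideal ⟨V, hV⟩ = J := ideal_eq f n hV h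
  -- the identification of the sections of the ideal module
  let e₀ : Γ(ClSub.idealMod (f.ker ^ n), V) →ₗ[Γ(X, V)] J :=
    { toFun := fun t => ⟨idealSect (f.ker ^ n) V t, hJ ▸ idealSect_mem (f.ker ^ n) ⟨V, hV⟩ t⟩
      map_add' := fun t t' => Subtype.ext (map_add _ t t')
      map_smul' := fun a t => Subtype.ext (idealSect_smul (f.ker ^ n) V a t) }
  have he₀ : Function.Bijective e₀ := by
    refine ⟨fun t t' htt' => idealSect_injective (f.ker ^ n) V (congrArg Subtype.val htt'), fun x => ?_⟩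
    obtain ⟨t, ht⟩ := exists_idealSect_eq (f.ker ^ n) ⟨V, hV⟩ (a := x.1) (by rw [hJ]; exact x.2)
    exact ⟨t, Subtype.ext ht⟩
  let e := LinearEquiv.ofBijective e₀ he₀
  let s := PullSec.secₗ f (ClSub.idealMod (f.ker ^ n)) h.le
  let c : ↥J →+ Γ(grMod f n, U) := s.toAddMonoidHom.comp e.symm.toLinearMap.toAddMonoidHom
  have hc : ∀ x, c x = s (e.symm x) := fun _ => rfl
  refine ⟨c, ⟨?_, ?_, ?_⟩, ?_⟩
  · intro y
    have hs : Function.Surjective s := by
      intro y
      refine hbc.inductionOn y (motive := fun y => ∃ x, s x = y) ⟨0, map_zero s⟩ (fun m => ⟨m, rfl⟩) ?_ ?_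
      · rintro r _ ⟨x, rfl⟩
        obtain ⟨b, rfl⟩ := appLE_surjective f hV h r
        exact ⟨b • x, by rw [map_smul]; exact (algebraMap_smul Γ(Y, U) b (s x)).symm⟩
      · rintro _ _ ⟨x, rfl⟩ ⟨y, rfl⟩
        exact ⟨x + y, map_add s x y⟩
    obtain ⟨x, rfl⟩ := hs y
    exact ⟨e x, by rw [hc, e.symm_apply_apply]⟩
  · intro x
    rw [hc]
    constructor
    · intro hx
      have h1 := K584.UnivRing.mem_smul_top (appLE_surjective f hV h) s hbc _ hx
      have h2 : e (e.symm x) ∈ (RingHom.ker (algebraMap Γ(X, V) Γ(Y, U)) • (⊤ : Submodule Γ(X, V) ↥J)) := by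
        have := Submodule.mem_map_of_mem (f := e.toLinearMap) h1
        rw [Submodule.map_smul''] at this
        exact Submodule.smul_mono le_rfl le_top this
      rw [e.apply_symm_apply] at h2
      have h3 := Submodule.mem_map_of_mem (f := J.subtype) h2
      rw [Submodule.map_smul'', Submodule.map_top, Submodule.range_subtype, smul_eq_mul] at h3
      rw [pow_succ']
      exact h3
    · intro hx
      have h3 : (x : Γ(X, V)) ∈ (RingHom.ker (algebraMap Γ(X, V) Γ(Y, U)) • (⊤ : Submodule Γ(X, V) ↥J)).map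
          J.subtype := by
        rw [Submodule.map_smul'', Submodule.map_top, Submodule.range_subtype, smul_eq_mul]
        rw [pow_succ'] at hx
        exact hx
      obtain ⟨x', hx', hxx'⟩ := h3
      have h4 : x' = x := Subtype.ext hxx'
      rw [h4] at hx'
      clear h4 hxx' x'
      have h5 : ∀ y ∈ (RingHom.ker (algebraMap Γ(X, V) Γ(Y, U)) • (⊤ : Submodule Γ(X, V) ↥J)), s (e.symm y) = 0 := by
        intro y hy
        refine Submodule.smul_induction_on hy ?_ ?_
        · intro r hr m _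
          rw [map_smul, map_smul, ← algebraMap_smul Γ(Y, U) r, (RingHom.mem_ker).1 hr, zero_smul]
        · intro y z hy hz
          rw [map_add, map_add, hy, hz, add_zero]
      exact h5 x hx'
  · intro b x
    rw [hc, hc, map_smul]
    exact PullSec.sec_smul f (ClSub.idealMod (f.ker ^ n)) h.le b (e.symm x)
  · intro x t ht
    rw [hc]
    have : e.symm x = t := by
      rw [LinearEquiv.symm_apply_eq]
      exact Subtype.ext ht.symm
    rw [this]
    rfl

end Chart

section Map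

variable (f : Y ⟶ X) (f' : Y' ⟶ X') (v : X' ⟶ X) (u : Y' ⟶ Y) (n : ℕ)

/-- Sections of `I ^ n` pull back to sections of `I' ^ n`. -/
theorem exists_pull (w : u ≫ f = f' ≫ v) (V : X.Opens) (t : Γ(ClSub.idealMod (f.ker ^ n), V)) :
    ∃ t' : Γ(ClSub.idealMod (f'.ker ^ n), v ⁻¹ᵁ V),
      idealSect (f'.ker ^ n) (v ⁻¹ᵁ V) t' = v.app V (idealSect (f.ker ^ n) V t) := by
  have h1 : f.ker.comap v ≤ f'.ker := by
    rw [← Scheme.IdealSheafData.le_map_iff_comap_le, Scheme.IdealSheafData.map_ker, ← w]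
    exact Scheme.Hom.le_ker_comp u f
  have h2 : f.ker ^ n ≤ (f'.ker ^ n).map v := by
    rw [Scheme.IdealSheafData.le_map_iff_comap_le, Divis.IdealComap.comap_pow]
    exact pow_le_pow_left' h1 n
  have h3 := Scheme.IdealSheafData.subschemeMap_subschemeι _ _ v h2
  apply (subschemeι_app_eq_zero_iff (f'.ker ^ n) (v ⁻¹ᵁ V) _).1
  have h4 : (f.ker ^ n).subschemeι.app V (idealSect (f.ker ^ n) V t) = 0 :=
    (subschemeι_app_eq_zero_iff (f.ker ^ n) V _).2 ⟨t, rfl⟩
  have h5 := Scheme.Hom.congr_app h3 V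
  have h6 := congr($h5 (idealSect (f.ker ^ n) V t))
  rw [Scheme.Hom.comp_app, Scheme.Hom.comp_app] at h6
  have h7 : (Scheme.IdealSheafData.subschemeMap (f'.ker ^ n) (f.ker ^ n) v h2).app _
      ((f.ker ^ n).subschemeι.app V (idealSect (f.ker ^ n) V t)) = 0 := by
    rw [h4]
    exact map_zero _
  have h8 : Function.Injective (((f'.ker ^ n).subscheme).presheaf.map (eqToHom (show
      (Scheme.IdealSheafData.subschemeMap (f'.ker ^ n) (f.ker ^ n) v h2 ≫ (f.ker ^ n).subschemeι) ⁻¹ᵁ V =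
        ((f'.ker ^ n).subschemeι ≫ v) ⁻¹ᵁ V by rw [h3])).op) :=
    (ConcreteCategory.bijective_of_isIso _).1
  apply h8
  exact (h6.symm.trans h7).trans (map_zero _).symm

variable {f f' v u n}

/-- The value of the canonical map on classes. -/
theorem app_sec {φ : (Scheme.Modules.pullback u).obj (grMod f n) ⟶ grMod f' n} (hφ : IsGrMap f' f v u n φ)
    {V : X.Opens} {U : Y.Opens} (h : U = f ⁻¹ᵁ V) {V' : X'.Opens} {U' : Y'.Opens} (e : V' ≤ v ⁻¹ᵁ V)
    (h' : U' = f' ⁻¹ᵁ V') (e' : U' ≤ u ⁻¹ᵁ U) (t : Γ(ClSub.idealMod (f.ker ^ n), V))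
    (t' : Γ(ClSub.idealMod (f'.ker ^ n), V'))
    (ht : idealSect (f'.ker ^ n) V' t' = v.appLE V V' e (idealSect (f.ker ^ n) V t)) :
    φ.app U' (PullSec.sec u (grMod f n) e' (PullSec.sec f (ClSub.idealMod (f.ker ^ n)) h.le t)) =
      PullSec.sec f' (ClSub.idealMod (f'.ker ^ n)) h'.le t' := by
  subst h h'
  obtain ⟨t₀, ht₀⟩ := exists_pull f f' v u n hφ.1 V t
  have h1 := hφ.2 V t t₀ ht₀ (f' ⁻¹ᵁ V') e' (f'.preimage_mono e)
  have h2 : (ClSub.idealMod (f'.ker ^ n)).presheaf.map (homOfLE e).op t₀ = t' := by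
    apply idealSect_injective
    rw [idealSect_map, ht₀, ht]
    rfl
  have h3 : PullSec.sec f (ClSub.idealMod (f.ker ^ n)) (le_refl (f ⁻¹ᵁ V)) t = grSect f n V t := by
    change ((Scheme.Modules.pullback f).obj (ClSub.idealMod (f.ker ^ n))).presheaf.map (homOfLE _).op
      (pullSect f (ClSub.idealMod (f.ker ^ n)) V t) = _
    have h2 : (homOfLE (le_refl (f ⁻¹ᵁ V))).op = 𝟙 _ := rfl
    rw [h2, CategoryTheory.Functor.map_id]
    rfl
  rw [h3]
  have h4 : φ.app (f' ⁻¹ᵁ V') (PullSec.sec u (grMod f n) e' (grSect f n V t)) =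
      (grMod f' n).presheaf.map (homOfLE e').op (φ.app (u ⁻¹ᵁ (f ⁻¹ᵁ V)) (pullSect u (grMod f n) (f ⁻¹ᵁ V)
        (grSect f n V t))) := Basic.app_res φ e' _
  rw [h4, h1, ← h2]
  have h5 := PullSec.sec_res f' (ClSub.idealMod (f'.ker ^ n)) (le_refl (f' ⁻¹ᵁ (v ⁻¹ᵁ V))) (le_refl (f' ⁻¹ᵁ V')) e
    (f'.preimage_mono e) t₀
  refine Eq.trans ?_ h5
  congr 1
  change _ = ((Scheme.Modules.pullback f').obj (ClSub.idealMod (f'.ker ^ n))).presheaf.map (homOfLE _).op
      (pullSect f' (ClSub.idealMod (f'.ker ^ n)) (v ⁻¹ᵁ V) t₀)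
  have h2 : (homOfLE (le_refl (f' ⁻¹ᵁ (v ⁻¹ᵁ V)))).op = 𝟙 _ := rfl
  rw [h2, CategoryTheory.Functor.map_id]
  rfl

end Map

end K137.GrSec
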