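import Groth.Agent.Nrm16.K137.Nbhd
import Groth.Agent.CycB.ClosedDev

/-!
# The projections of the infinitesimal neighbourhoods of the diagonal are homeomorphisms

* `isEmbedding_pr1`, `isEmbedding_pr2`, `surjective_pr1`, `surjective_pr2`;
* `pushStalkIso`: stalks of direct images along a morphism which is an embedding of spaces;
* `preservesColimits_push`: the direct image along a morphism which is a homeomorphism on spaces preserves colimits.
-/

set_option autoImplicit false
universe u

open CategoryTheory CategoryTheory.Limits AlgebraicGeometry TopologicalSpace Opposite PrinPart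

namespace K137.Homeo

open Groth.Agent.CycB.StalkExact Groth.Agent.CycB

section Push

variable {X Z : Scheme.{u}} (i : Z ⟶ X)

/-- The isomorphism `(i_* F)_{i z} ≅ F_z` for `i` inducing. -/
noncomputable def pushStalkIso (hi : Topology.IsInducing i) (z : Z) :
    Scheme.Modules.pushforward i ⋙ stalkFun (i z) ≅ stalkFun z :=
  NatIso.ofComponents (fun F => @asIso _ _ _ _ (PushStalk.pushStalkHom i F z)
    (TopCat.Presheaf.stalkPushforward.stalkPushforward_iso_of_isInducing Ab.{u}
      hi F.presheaf z)) fun {F G} φ => by
    ext m
    exact (PushStalk.pushStalk_natural i φ z m)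

theorem preservesColimits_stalkFun (x : X) : PreservesColimitsOfSize.{u, u} (stalkFun x) :=
  preservesColimits_of_preservesCoequalizers_and_coproducts _

theorem preservesColimits_push (hi : Topology.IsInducing i) (hs : Function.Surjective i) :
    PreservesColimitsOfSize.{u, u} (Scheme.Modules.pushforward i) := by
  refine ⟨fun {J} _ => ?_⟩
  have (x : X) : PreservesColimitsOfShape J (stalkFun x) := (preservesColimits_stalkFun x).preservesColimitsOfShape
  refine ClosedDev.preservesColimitsOfShape_of_stalks _ fun x => ?_
  obtain ⟨z, rfl⟩ := hs x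
  have := (preservesColimits_stalkFun z).preservesColimitsOfShape (J := J)
  exact preservesColimitsOfShape_of_natIso (pushStalkIso i hi z).symm

end Push

variable {X S : Scheme.{u}} (f : X ⟶ S) (n : ℕ)

theorem toNbhd_pr1_apply (z : nbhd f n) : toNbhd f n (pr1 f n z) = z := by
  obtain ⟨y, rfl⟩ := toInfNbhd_surjective (diagCl f) n z
  have h : pr1 f n (toNbhd f n y) = y := by
    rw [← Scheme.Hom.comp_apply, toNbhd_pr1]
    rfl
  exact congr(toNbhd f n $h)

theorem isEmbedding_pr1 : Topology.IsEmbedding (pr1 f n) :=
  .of_leftInverse (toNbhd_pr1_apply f n) (toNbhd f n).continuous (pr1 f n).continuous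

theorem surjective_pr1 : Function.Surjective (pr1 f n) := fun x =>
  ⟨toNbhd f n x, by rw [← Scheme.Hom.comp_apply, toNbhd_pr1]; rfl⟩

theorem isEmbedding_pr2 : Topology.IsEmbedding (pr2 f n) :=
  .of_leftInverse (fun z => by rw [← pr1_apply]; exact toNbhd_pr1_apply f n z) (toNbhd f n).continuous
    (pr2 f n).continuous

theorem surjective_pr2 : Function.Surjective (pr2 f n) := fun x =>
  ⟨toNbhd f n x, by rw [← Scheme.Hom.comp_apply, toNbhd_pr2]; rfl⟩

end K137.Homeo
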