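import Groth.Agent.Nrm16.K137.Basic

/-!
# Pulling back along an isomorphism of schemes

`isEquivalence_push`, `isIso_unit`, `bijective_pullSect`.
-/

set_option autoImplicit false
universe u
open CategoryTheory CategoryTheory.Limits AlgebraicGeometry TopologicalSpace Opposite

namespace K137.IsoPull

variable {X Y : Scheme.{u}}

/-- Push forward along an isomorphism is an equivalence. -/
theorem isEquivalence_push (h : X ⟶ Y) [IsIso h] : (Scheme.Modules.pushforward h).IsEquivalence := by
  have h1 : Scheme.Modules.pushforward (inv h) ⋙ Scheme.Modules.pushforward h ≅ 𝟭 _ :=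
    Scheme.Modules.pushforwardComp (inv h) h ≪≫ Scheme.Modules.pushforwardCongr (IsIso.inv_hom_id h) ≪≫
      Scheme.Modules.pushforwardId Y
  have h2 : Scheme.Modules.pushforward h ⋙ Scheme.Modules.pushforward (inv h) ≅ 𝟭 _ :=
    Scheme.Modules.pushforwardComp h (inv h) ≪≫ Scheme.Modules.pushforwardCongr (IsIso.hom_inv_id h) ≪≫
      Scheme.Modules.pushforwardId X
  exact (CategoryTheory.Equivalence.mk (Scheme.Modules.pushforward h) (Scheme.Modules.pushforward (inv h))
    h2.symm h1).isEquivalence_functor

/-- `M ≅ h_* h^* M`. -/
theorem isIso_unit (h : X ⟶ Y) [IsIso h] (M : Y.Modules) :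
    IsIso ((Scheme.Modules.pullbackPushforwardAdjunction h).unit.app M) := by
  have := isEquivalence_push h
  have : (Scheme.Modules.pullback h).IsEquivalence :=
    (Scheme.Modules.pullbackPushforwardAdjunction h).isEquivalence_left_of_isEquivalence_right
  infer_instance

theorem bijective_pullSect (h : X ⟶ Y) [IsIso h] (M : Y.Modules) (U : Y.Opens) :
    Function.Bijective (OmegaSh.pullSect h M U) := by
  have := isIso_unit h M
  have : IsIso (OmegaSh.pullSect h M U) :=
    inferInstanceAs (IsIso (((Scheme.Modules.pullbackPushforwardAdjunction h).unit.app M).app U))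
  exact ConcreteCategory.bijective_of_isIso _

end K137.IsoPull
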