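import Groth.Agent.Nrm16.K137.Chart

/-!
# `P^n_{X/S}` is generated by the image of `d^n`

* `span_dn`: over affine opens `Γ(P f n, U)` is spanned over `Γ(X, U)` by the `d^n s`;
* `hom_ext_dn`: two maps out of `P f n` that agree on the `d^n s` over a basis of affine charts agree.
-/

set_option autoImplicit false
universe u

open CategoryTheory CategoryTheory.Limits AlgebraicGeometry TopologicalSpace Opposite PrinPart
open scoped TensorProduct

namespace K137.Span

open K137.Chart

variable {X S : Scheme.{u}} {f : X ⟶ S} {V : S.Opens} {U : X.Opens} (e : U ≤ f ⁻¹ᵁ V)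

include e in
theorem exists_sum (n : ℕ) (hV : IsAffineOpen V) (hU : IsAffineOpen U)
    (p : Γ(P f n, U)) : p ∈ Submodule.span Γ(X, U) (Set.range (dn f n U)) := by
  let := (f.appLE V U e).hom.toAlgebra
  obtain ⟨t, ht, hs, -⟩ := exists_tot e (A := Γ(S, V)) (B := Γ(X, U)) n hV hU (Iso.refl _) (Iso.refl _) rfl
  obtain ⟨x, hx⟩ := hs (th f n U p)
  have hb := (th_bijective f n U).1
  -- every value of `t` is the image of an element of the span
  have key : ∀ x, ∃ p ∈ Submodule.span Γ(X, U) (Set.range (dn f n U)), th f n U p = t x := by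
    intro x
    induction x using TensorProduct.induction_on with
    | zero => exact ⟨0, zero_mem _, (map_zero _).trans (map_zero t).symm⟩
    | add x y hx hy =>
      obtain ⟨p, hp, hpx⟩ := hx
      obtain ⟨p', hp', hpy⟩ := hy
      exact ⟨p + p', add_mem hp hp', by rw [map_add, map_add, hpx, hpy]⟩
    | tmul b b' =>
      refine ⟨b • dn f n U b', Submodule.smul_mem _ _ (Submodule.subset_span ⟨b', rfl⟩), ?_⟩
      rw [th_smul, th_dn, ht]
      rfl
  obtain ⟨p', hp', h⟩ := key x
  have h2 : p' = p := hb (h.trans hx)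
  rwa [← h2]

include e in
/-- Over affine opens `Γ(P f n, U)` is spanned by the `d^n s`. -/
theorem span_dn (n : ℕ) (hV : IsAffineOpen V) (hU : IsAffineOpen U) :
    Submodule.span Γ(X, U) (Set.range (dn f n U)) = ⊤ :=
  top_le_iff.mp fun p _ => exists_sum e n hV hU p

/-- Two maps out of `P f n` that agree on the `d^n s` over a basis of affine charts agree. -/
theorem hom_ext_dn {n : ℕ} {G : X.Modules} {a b : P f n ⟶ G}
    (H : ∀ (x : X) (O : X.Opens), x ∈ O → ∃ (V : S.Opens) (U : X.Opens) (_ : U ≤ f ⁻¹ᵁ V),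
      IsAffineOpen V ∧ IsAffineOpen U ∧ x ∈ U ∧ U ≤ O ∧
        ∀ s : Γ(X, U), a.app U (dn f n U s) = b.app U (dn f n U s)) : a = b := by
  apply Scheme.Modules.hom_ext
  intro O
  ext p
  apply K583.DerAffine.eq_of_locally
  intro x hx
  obtain ⟨V, U, e, hV, hU, hxU, hUO, h⟩ := H x O hx
  refine ⟨U, hUO, hxU, ?_⟩
  rw [← Basic.app_res, ← Basic.app_res]
  generalize (P f n).presheaf.map (homOfLE hUO).op p = p'
  have h1 := exists_sum e n hV hU p'
  induction h1 using Submodule.span_induction with
  | mem y hy =>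
    obtain ⟨s, rfl⟩ := hy
    exact h s
  | zero => rw [map_zero, map_zero]
  | add y z _ _ hy hz => rw [map_add, map_add, hy, hz]
  | smul c y _ hy => rw [Scheme.Modules.Hom.app_smul, Scheme.Modules.Hom.app_smul, hy]

end K137.Span
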