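import Mathlib.RingTheory.Kaehler.Basic
import Groth.Agent.OmegaSh.K583.AlgUniv

/-!
# `(B ⊗[A] B) / I ^ 2 ≅ B ⊕ Ω_{B/A}`

`bijective_split`: for a universal derivation `δ : B → M` and `t : B ⊗[A] B → R` surjective with kernel `I ^ 2`, the
map `B × M → R`, `(b, m) ↦ t (b ⊗ 1) + L m`, `L (δ s) = t (1 ⊗ s - s ⊗ 1)`, is bijective.
-/

set_option autoImplicit false
universe u
open scoped TensorProduct

namespace K137.SplitOne

open K583.AlgUniv

variable {A B M : Type u} [CommRing A] [CommRing B] [Algebra A B] [AddCommGroup M] [Module B M] (δ : B →+ M)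

/-- `b ⊗ b' ↦ b • δ b'`. -/
theorem exists_r (h : IsDer (algebraMap A B) δ) : ∃ r : B ⊗[A] B →+ M, (∀ b b', r (b ⊗ₜ b') = b • δ b') ∧
    ∀ x y, r (x * y) = Algebra.TensorProduct.lmul' A (S := B) x • r y +
      Algebra.TensorProduct.lmul' A (S := B) y • r x := by
  let : Module A M := Module.compHom M (algebraMap A B)
  have : IsScalarTower A B M := ⟨fun a b m => by rw [Algebra.smul_def, mul_smul]; rfl⟩
  let δ' : B →ₗ[A] M :=
    { toFun := δ
      map_add' := map_add δ
      map_smul' := fun a b => by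
        rw [Algebra.smul_def, h.leibniz, h.zero, smul_zero, add_zero, algebraMap_smul]
        rfl }
  let r : B ⊗[A] B →ₗ[A] M := TensorProduct.lift
    { toFun := fun b => b • δ'
      map_add' := fun b c => by rw [add_smul]
      map_smul' := fun a b => by rw [smul_assoc]; rfl }
  have hr : ∀ b b', r (b ⊗ₜ b') = b • δ b' := fun b b' => rfl
  refine ⟨r.toAddMonoidHom, hr, fun x y => ?_⟩
  change r (x * y) = _ • r y + _ • r x
  induction x using TensorProduct.induction_on with
  | zero => simp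
  | add x x' hx hx' =>
    rw [add_mul, map_add, map_add, map_add, hx, hx', add_smul, smul_add]
    abel
  | tmul b b' =>
    induction y using TensorProduct.induction_on with
    | zero => simp
    | add y y' hy hy' =>
      rw [mul_add, map_add, map_add, map_add, hy, hy', add_smul, smul_add]
      abel
    | tmul c c' =>
      rw [Algebra.TensorProduct.tmul_mul_tmul, hr, hr, hr, h.leibniz, Algebra.TensorProduct.lmul'_apply_tmul,
        Algebra.TensorProduct.lmul'_apply_tmul, smul_add, smul_smul, smul_smul, smul_smul, smul_smul]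
      congr 2 <;> ring

variable {R : Type u} [CommRing R]

theorem bijective_split (h : IsAlgUniv (algebraMap A B) δ) (t : B ⊗[A] B →+* R) (ht : Function.Surjective t)
    (hk : RingHom.ker t = KaehlerDifferential.ideal A B ^ 2) (L : M →+ R)
    (hL : ∀ b m, L (b • m) = t (b ⊗ₜ 1) * L m) (hLδ : ∀ s, L (δ s) = t (1 ⊗ₜ s) - t (s ⊗ₜ 1)) :
    (∀ b m, t (b ⊗ₜ 1) + L m = 0 → b = 0 ∧ m = 0) ∧ ∀ r, ∃ b m, t (b ⊗ₜ 1) + L m = r := by
  obtain ⟨r, hr, hmul⟩ := exists_r (A := A) δ h.toIsDer
  have h1 : δ 1 = 0 := by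
    have := h.leibniz 1 1
    simpa using this
  set μ := Algebra.TensorProduct.lmul' A (S := B) with hμ
  have hμt : ∀ b b', μ (b ⊗ₜ b') = b * b' := fun b b' => Algebra.TensorProduct.lmul'_apply_tmul b b'
  -- elements of the kernel of `t`
  have hkey : ∀ x, t x = 0 → μ x = 0 ∧ r x = 0 := by
    intro x hx
    have h2 : x ∈ KaehlerDifferential.ideal A B ^ 2 := by rw [← hk]; exact hx
    rw [pow_two] at h2
    refine Submodule.mul_induction_on h2 ?_ ?_
    · intro a ha b hb
      have ha' : μ a = 0 := ha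
      have hb' : μ b = 0 := hb
      exact ⟨by rw [map_mul, ha', zero_mul], by rw [hmul, ha', hb', zero_smul, zero_smul, add_zero]⟩
    · rintro a b ⟨ha, ha'⟩ ⟨hb, hb'⟩
      exact ⟨by rw [map_add, ha, hb, add_zero], by rw [map_add, ha', hb', add_zero]⟩
  -- representatives
  have hrep : ∀ m, ∃ x, t x = L m ∧ μ x = 0 ∧ r x = m := by
    intro m
    have hm : m ∈ Submodule.span B (Set.range δ) := by rw [h.span_eq_top]; trivial
    induction hm using Submodule.span_induction with
    | mem m hm =>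
      obtain ⟨s, rfl⟩ := hm
      refine ⟨1 ⊗ₜ s - s ⊗ₜ 1, by rw [map_sub, hLδ], ?_, ?_⟩
      · rw [map_sub, hμt, hμt, one_mul, mul_one, sub_self]
      · rw [map_sub, hr, hr, h1, smul_zero, sub_zero, one_smul]
    | zero => exact ⟨0, (map_zero t).trans (map_zero L).symm, map_zero μ, map_zero r⟩
    | add m m' _ _ hm hm' =>
      obtain ⟨x, hx, hx', hx''⟩ := hm
      obtain ⟨y, hy, hy', hy''⟩ := hm'
      exact ⟨x + y, by rw [map_add, map_add, hx, hy], by rw [map_add, hx', hy', add_zero],
        by rw [map_add, hx'', hy'']⟩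
    | smul b m _ hm =>
      obtain ⟨x, hx, hx', hx''⟩ := hm
      refine ⟨(b ⊗ₜ 1) * x, by rw [map_mul, hL, hx], by rw [map_mul, hx', mul_zero], ?_⟩
      rw [hmul, hx', zero_smul, add_zero, hx'', hμt, mul_one]
  constructor
  · intro b m hbm
    obtain ⟨x, hx, hx', hx''⟩ := hrep m
    obtain ⟨h3, h4⟩ := hkey (b ⊗ₜ 1 + x) (by rw [map_add, hx, hbm])
    rw [map_add, hμt, mul_one, hx', add_zero] at h3
    rw [map_add, hr, h1, smul_zero, zero_add, hx''] at h4
    exact ⟨h3, h4⟩
  · intro y
    obtain ⟨x, rfl⟩ := ht y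
    induction x using TensorProduct.induction_on with
    | zero => exact ⟨0, 0, by rw [TensorProduct.zero_tmul, map_zero, map_zero, add_zero]⟩
    | add x y hx hy =>
      obtain ⟨b, m, hbm⟩ := hx
      obtain ⟨b', m', hbm'⟩ := hy
      refine ⟨b + b', m + m', ?_⟩
      rw [TensorProduct.add_tmul, map_add, map_add, map_add, ← hbm, ← hbm']
      ring
    | tmul b b' =>
      refine ⟨b * b', b • δ b', ?_⟩
      rw [hL, hLδ, mul_sub, ← map_mul, ← map_mul, Algebra.TensorProduct.tmul_mul_tmul,
        Algebra.TensorProduct.tmul_mul_tmul, mul_one, one_mul, one_mul]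
      ring

end K137.SplitOne
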