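import Groth.Agent.OmegaSh.K583.AlgUniv
import Mathlib.LinearAlgebra.SymmetricAlgebra.Basic
import Mathlib.Algebra.TrivSqZeroExt.Basic
import Mathlib.RingTheory.IsTensorProduct

/-!
# Differentials of a symmetric algebra

* `exists_der`: derivations of `Sym(M)` with prescribed values on `M`;
* `eq_of_ι`: derivations of `Sym(M)` agreeing on `M` agree;
* `bijective_of_isBaseChange`: `Ω_{Sym(M)/R} = Sym(M) ⊗ M`.
-/

set_option autoImplicit false
universe u

namespace K137.SymOmega

open K583.AlgUniv

variable {R B M P N : Type u} [CommRing R] [CommRing B] [Algebra R B] [AddCommGroup M] [Module R M]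
  [AddCommGroup P] [Module B P] [AddCommGroup N] [Module B N]

theorem exists_der (σ : SymmetricAlgebra R M ≃ₐ[R] B) (s : M →+ P)
    (hs : ∀ (r : R) m, s (r • m) = algebraMap R B r • s m) :
    ∃ D : B →+ P, IsDer (algebraMap R B) D ∧ ∀ m, D (σ (SymmetricAlgebra.ι R M m)) = s m := by
  let : Module R P := Module.compHom P (algebraMap R B)
  have : IsScalarTower R B P := IsScalarTower.of_algebraMap_smul fun _ _ => rfl
  let : Module Bᵐᵒᵖ P := Module.compHom P ((RingHom.id B).fromOpposite mul_comm)
  have : IsCentralScalar B P := ⟨fun _ _ => rfl⟩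
  have : IsScalarTower R Bᵐᵒᵖ P := inferInstance
  let g : M →ₗ[R] TrivSqZeroExt B P :=
    { toFun := fun m => (σ (SymmetricAlgebra.ι R M m), s m)
      map_add' := fun m m' => by
        rw [map_add, map_add, map_add]
        rfl
      map_smul' := fun r m => by
        rw [map_smul, map_smul, hs]
        rfl }
  let G := (SymmetricAlgebra.lift g).comp σ.symm.toAlgHom
  have hfst : ∀ b, (G b).fst = b := by
    have : (TrivSqZeroExt.fstHom R B P).comp (SymmetricAlgebra.lift g) = σ.toAlgHom := by
      apply SymmetricAlgebra.algHom_ext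
      ext m
      change (SymmetricAlgebra.lift g (SymmetricAlgebra.ι R M m)).fst = _
      rw [SymmetricAlgebra.lift_ι_apply]
      rfl
    intro b
    obtain ⟨x, rfl⟩ := σ.surjective b
    change (SymmetricAlgebra.lift g (σ.symm (σ x))).fst = _
    rw [AlgEquiv.symm_apply_apply]
    exact congr($this x)
  refine ⟨(TrivSqZeroExt.sndHom B P).toAddMonoidHom.comp G.toRingHom.toAddMonoidHom, ⟨?_, ?_⟩, ?_⟩
  · intro a b
    change (G (a * b)).snd = a • (G b).snd + b • (G a).snd
    rw [map_mul, TrivSqZeroExt.snd_mul, hfst, hfst]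
    rfl
  · intro r
    change (G (algebraMap R B r)).snd = 0
    rw [AlgHom.commutes]
    rfl
  · intro m
    change (SymmetricAlgebra.lift g (σ.symm (σ _))).snd = _
    rw [AlgEquiv.symm_apply_apply, SymmetricAlgebra.lift_ι_apply]
    rfl

theorem eq_of_ι (σ : SymmetricAlgebra R M ≃ₐ[R] B) {D D' : B →+ P} (h : IsDer (algebraMap R B) D)
    (h' : IsDer (algebraMap R B) D')
    (H : ∀ m, D (σ (SymmetricAlgebra.ι R M m)) = D' (σ (SymmetricAlgebra.ι R M m))) (b : B) : D b = D' b := by
  obtain ⟨x, rfl⟩ := σ.surjective b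
  induction x using SymmetricAlgebra.induction with
  | algebraMap r => rw [AlgEquiv.commutes, h.zero, h'.zero]
  | ι m => exact H m
  | mul a b ha hb => rw [map_mul, h.leibniz, h'.leibniz, ha, hb]
  | add a b ha hb => rw [map_add, map_add, map_add, ha, hb]

theorem bijective_of_isBaseChange (σ : SymmetricAlgebra R M ≃ₐ[R] B) [Module R P] [IsScalarTower R B P]
    (s : M →ₗ[R] P) (hs : IsBaseChange B s) {δ : B →+ N} (h : IsAlgUniv (algebraMap R B) δ) (L : P →ₗ[B] N)
    (hL : ∀ m, L (s m) = δ (σ (SymmetricAlgebra.ι R M m))) : Function.Bijective L := by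
  obtain ⟨D, hD, hDs⟩ := exists_der (P := P) σ s.toAddMonoidHom (fun r m => by
    change s (r • m) = _ • s m
    rw [map_smul, algebraMap_smul])
  obtain ⟨L', hL', -⟩ := h.lift P D hD
  have h1 : ∀ p, L' (L p) = p := by
    have : (L'.comp L).restrictScalars R ∘ₗ s = (LinearMap.id (R := B) (M := P)).restrictScalars R ∘ₗ s := by
      ext m
      change L' (L (s m)) = s m
      rw [hL, hL', hDs]
      rfl
    intro p
    have h2 : L'.comp L = LinearMap.id := hs.algHom_ext _ _ (fun m => congr($this m))
    exact congr($h2 p)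
  have h2 : ∀ n, L (L' n) = n := by
    have : L.comp L' = LinearMap.id := by
      apply h.hom_ext
      intro b
      change L (L' (δ b)) = δ b
      rw [hL']
      refine eq_of_ι σ (hD.comp L) h.toIsDer (fun m => ?_) b
      change L (D _) = _
      rw [hDs]
      exact hL m
    intro n
    exact congr($this n)
  exact ⟨Function.LeftInverse.injective h1, Function.RightInverse.surjective h2⟩

end K137.SymOmega
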